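import Cfsg.Agent.Lib.LivWag.Pairs
import Cfsg.Agent.S0743

/-!
In a `k`-transitive group, `4 ≤ k < n`, some `k + 1` points have all their even permutations induced.
-/

set_option autoImplicit false
set_option linter.unusedSectionVars false

namespace CfsgLivWag

open Equiv

universe u

variable {α : Type u} [Fintype α] [DecidableEq α] {G : Subgroup (Perm α)}

/-- The points fixed by a subgroup. -/
noncomputable def fixedOf (P : Subgroup (Perm α)) : Finset α := by
  classical exact Finset.univ.filter fun x => ∀ g ∈ P, g x = x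

theorem mem_fixedOf {P : Subgroup (Perm α)} {x : α} : x ∈ fixedOf P ↔ ∀ g ∈ P, g x = x := by
  simp [fixedOf]

theorem maps_fixedOf {P : Subgroup (Perm α)} {q : Perm α} (hq : ∀ g ∈ P, q⁻¹ * g * q ∈ P) {x : α}
    (hx : x ∈ fixedOf P) : q x ∈ fixedOf P := by
  rw [mem_fixedOf] at hx ⊢
  intro g hg
  have h := hx _ (hq g hg)
  rw [Perm.mul_apply, Perm.mul_apply, Perm.inv_eq_iff_eq] at h
  exact h

theorem le_fixS_fixedOf {P : Subgroup (Perm α)} (hP : P ≤ G) {s : Finset α} (hs : s ⊆ fixedOf P) :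
    P ≤ fixS G s := fun _ hg => ⟨hP hg, fun _ hx => mem_fixedOf.1 (hs hx) _ hg⟩

/-- A maximal `p`-subgroup gives a Sylow subgroup. -/
theorem exists_sylow_of_max {p : ℕ} [Fact p.Prime] {K P : Subgroup (Perm α)} (hPK : P ≤ K) (hP : IsPGroup p P)
    (hmax : ∀ Q : Subgroup (Perm α), P ≤ Q → Q ≤ K → IsPGroup p Q → Q = P) :
    ∃ S : Sylow p K, (S : Subgroup K).map K.subtype = P := by
  obtain ⟨S, hS⟩ := (hP.comap_of_injective K.subtype K.subtype_injective).exists_le_sylow
  refine ⟨S, hmax _ ?_ (Subgroup.map_subtype_le _) (S.2.map _)⟩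
  intro g hg
  exact ⟨⟨g, hPK hg⟩, hS (Subgroup.mem_comap.2 hg), rfl⟩

theorem max_conj {p : ℕ} {s t : Finset α} {P : Subgroup (Perm α)}
    (hmax : ∀ Q : Subgroup (Perm α), P ≤ Q → Q ≤ fixS G s → IsPGroup p Q → Q = P) {g : Perm α} (hg : g ∈ G)
    (hst : s.image g = t) (Q : Subgroup (Perm α)) (hle : P.map (MulAut.conj g).toMonoidHom ≤ Q)
    (hQt : Q ≤ fixS G t) (hQp : IsPGroup p Q) : Q = P.map (MulAut.conj g).toMonoidHom := by
  rw [← fixS_conj hg hst] at hQt
  have e : (Q.comap (MulAut.conj g).toMonoidHom).map (MulAut.conj g).toMonoidHom = Q :=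
    Subgroup.map_comap_eq_self_of_surjective (MulAut.conj g).surjective Q
  rw [← e]
  congr 1
  refine hmax _ (Subgroup.map_le_iff_le_comap.1 hle) ?_ (hQp.comap_of_injective _ (MulAut.conj g).injective)
  calc Q.comap (MulAut.conj g).toMonoidHom ≤ ((fixS G s).map (MulAut.conj g).toMonoidHom).comap
        (MulAut.conj g).toMonoidHom := Subgroup.comap_mono hQt
    _ = fixS G s := Subgroup.comap_map_eq_self_of_injective (MulAut.conj g).injective _

/-- Witt: two tuples of the fixed points of a Sylow subgroup of the stabiliser are linked by an element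
permuting these points. -/
theorem kt_fixed_of_sylow {k p : ℕ} [Fact p.Prime] (hG : KT G k) {P : Subgroup (Perm α)} (hPG : P ≤ G)
    (hP : IsPGroup p P) {s₀ : Finset α} (hs₀ : s₀.card = k) (hsF : s₀ ⊆ fixedOf P)
    (hmax : ∀ Q : Subgroup (Perm α), P ≤ Q → Q ≤ fixS G s₀ → IsPGroup p Q → Q = P) :
    KT (Ind G (fixedOf P)) k := by
  classical
  set F := fixedOf P with hF
  -- correction inside a pointwise stabiliser
  have key : ∀ g ∈ G, s₀.image g ⊆ F → ∃ u ∈ fixS G (s₀.image g), ∀ x ∈ F, (u * g) x ∈ F := by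
    intro g hg hsub
    set t := s₀.image g with ht
    set K := fixS G t with hK
    set P' := P.map (MulAut.conj g).toMonoidHom with hP'
    have hP'K : P' ≤ K := by
      rw [hK, ← fixS_conj hg ht.symm]
      exact Subgroup.map_mono (le_fixS_fixedOf hPG hsF)
    obtain ⟨S', hS'⟩ := exists_sylow_of_max hP'K (hP.map _) (max_conj hmax hg ht.symm)
    obtain ⟨S, hS⟩ := (hP.comap_of_injective K.subtype K.subtype_injective).exists_le_sylow
    have hcard : Nat.card ((S : Subgroup K).map K.subtype) = Nat.card P := by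
      rw [Subgroup.card_map_of_injective K.subtype_injective, S.card_eq_multiplicity, ← S'.card_eq_multiplicity,
        ← Subgroup.card_map_of_injective K.subtype_injective, hS', hP',
        Subgroup.card_map_of_injective (MulAut.conj g).injective]
    have hPS : P ≤ (S : Subgroup K).map K.subtype := fun x hx =>
      ⟨⟨x, le_fixS_fixedOf hPG hsub hx⟩, hS (Subgroup.mem_comap.2 hx), rfl⟩
    have hSP := Subgroup.eq_of_le_of_card_ge hPS hcard.le
    obtain ⟨u, hu⟩ := MulAction.exists_smul_eq K S' S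
    refine ⟨u, u.2, fun x hx => maps_fixedOf (fun y hy => ?_) hx⟩
    rw [hSP] at hy
    obtain ⟨z, hz, rfl⟩ := hy
    rw [← hu, SetLike.mem_coe, Sylow.coe_subgroup_smul, Subgroup.mem_smul_pointwise_iff_exists] at hz
    obtain ⟨w, hw, rfl⟩ := hz
    have hwP : (w : Perm α) ∈ P' := hS' ▸ ⟨w, hw, rfl⟩
    obtain ⟨v, hv, hvw⟩ := hwP
    have hvw' : g * v * g⁻¹ = (w : Perm α) := hvw
    have : ((u : Perm α) * g)⁻¹ * ((u : Perm α) * w * (u : Perm α)⁻¹) * ((u : Perm α) * g) = v := by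
      rw [← hvw']; group
    show ((u : Perm α) * g)⁻¹ * K.subtype (MulAut.conj u • w) * ((u : Perm α) * g) ∈ P
    rw [show K.subtype (MulAut.conj u • w) = (u : Perm α) * w * (u : Perm α)⁻¹ from rfl, this]
    exact hv
  intro σ s hs
  obtain ⟨s₁, hss, hs₁⟩ := Finset.exists_superset_card_eq hs (by
    rw [Fintype.card_coe, ← hs₀]; exact Finset.card_le_card hsF)
  set t := s₁.map (Function.Embedding.subtype _) with ht
  have htc : t.card = k := by rw [ht, Finset.card_map, hs₁]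
  have htF : t ⊆ F := fun x hx => by
    obtain ⟨z, -, rfl⟩ := Finset.mem_map.1 hx; exact z.2
  obtain ⟨g₁, hg₁, hg₁t⟩ := hG (Perm.ofSubtype σ) t htc.le
  obtain ⟨h₀, hh₀, hh₀t⟩ := hG.homog le_rfl s₀ t hs₀ htc
  obtain ⟨v, hv, hvF⟩ := key h₀ hh₀ (hh₀t ▸ htF)
  rw [hh₀t] at hv
  have hvh : s₀.image (v * h₀) = t := by
    conv_rhs => rw [← hh₀t]
    refine Finset.image_congr fun x hx => ?_
    rw [Perm.mul_apply, hv.2 _ (hh₀t ▸ Finset.mem_image_of_mem _ hx)]
  have himg : s₀.image (g₁ * (v * h₀)) = t.image g₁ := by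
    rw [← hvh, Finset.image_image]; rfl
  have htF' : t.image g₁ ⊆ F := fun x hx => by
    obtain ⟨z, hz, rfl⟩ := Finset.mem_image.1 hx
    obtain ⟨w, -, rfl⟩ := Finset.mem_map.1 hz
    rw [hg₁t _ hz, Function.Embedding.subtype_apply, Perm.ofSubtype_apply_coe]
    exact (σ w).2
  obtain ⟨u, hu, huF⟩ := key (g₁ * (v * h₀)) (G.mul_mem hg₁ (G.mul_mem hv.1 hh₀)) (himg ▸ htF')
  rw [himg] at hu
  have hmem : u * g₁ ∈ setS G F := by
    have h1 : u * (g₁ * (v * h₀)) ∈ setS G F :=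
      mem_setS_of_maps (G.mul_mem hu.1 (G.mul_mem hg₁ (G.mul_mem hv.1 hh₀))) huF
    have h2 : v * h₀ ∈ setS G F := mem_setS_of_maps (G.mul_mem hv.1 hh₀) hvF
    have := Subgroup.mul_mem _ h1 (Subgroup.inv_mem _ h2)
    rwa [← mul_assoc u g₁, mul_inv_cancel_right] at this
  refine ⟨(u * g₁).subtypePerm (fun x => hmem.2 x), ⟨u * g₁, hmem.1, fun _ => rfl⟩, fun x hx => Subtype.ext ?_⟩
  show (u * g₁) (x : α) = (σ x : α)
  have hxt : (x : α) ∈ t := Finset.mem_map_of_mem _ (hss hx)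
  rw [Perm.mul_apply, hu.2 _ (Finset.mem_image_of_mem _ hxt), hg₁t _ hxt, Perm.ofSubtype_apply_coe]

/-- The fixed points of a largest `p`-subgroup fixing `k + 1` points. -/
theorem kt_fixed {k p : ℕ} [Fact p.Prime] (hk : 1 ≤ k) (hG : KT G k) {P : Subgroup (Perm α)} (hPG : P ≤ G)
    (hP : IsPGroup p P) (hF : k + 1 ≤ (fixedOf P).card)
    (hbig : ∀ Q : Subgroup (Perm α), P ≤ Q → Q ≤ G → IsPGroup p Q → k + 1 ≤ (fixedOf Q).card → Q = P) :
    KT (Ind G (fixedOf P)) k := by
  classical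
  set F := fixedOf P with hFdef
  by_cases hB : ∃ s₀ ⊆ F, s₀.card = k ∧
      ∀ Q : Subgroup (Perm α), P ≤ Q → Q ≤ fixS G s₀ → IsPGroup p Q → Q = P
  · obtain ⟨s₀, h1, h2, h3⟩ := hB
    exact kt_fixed_of_sylow hG hPG hP h2 h1 h3
  push Not at hB
  refine (kt_iff (by rw [Fintype.card_coe]; omega)).2
    (Cfsg.Agent.S0743.result (Ind G F) (p := p) Fact.out hk (by rw [Fintype.card_coe]; omega) fun s hs => ?_)
  set t := s.map (Function.Embedding.subtype _) with ht
  have htF : t ⊆ F := fun x hx => by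
    obtain ⟨z, -, rfl⟩ := Finset.mem_map.1 hx; exact z.2
  obtain ⟨Q, hPQ, hQt, hQp, hne⟩ := hB t htF (by rw [ht, Finset.card_map, hs])
  have hnil : Group.IsNilpotent Q := hQp.isNilpotent
  have hlt : P.subgroupOf Q < ⊤ := by
    rw [lt_top_iff_ne_top, Ne, Subgroup.subgroupOf_eq_top]
    exact fun h => hne (le_antisymm h hPQ)
  obtain ⟨q, hqN, hqP⟩ := SetLike.exists_of_lt (Group.normalizerCondition_of_isNilpotent (G := Q) _ hlt)
  rw [Subgroup.mem_normalizer_iff] at hqN
  have hqconj : ∀ g ∈ P, (q : Perm α)⁻¹ * g * q ∈ P := fun g hg => by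
    have h := (hqN (q⁻¹ * ⟨g, hPQ hg⟩ * q)).2 (by
      rw [show q * (q⁻¹ * ⟨g, hPQ hg⟩ * q) * q⁻¹ = ⟨g, hPQ hg⟩ by group]
      exact hg)
    exact h
  let f : setS G F →* Ind G F :=
    { toFun := fun g => ⟨(g : Perm α).subtypePerm (fun x => g.2.2 x), g, g.2.1, fun _ => rfl⟩
      map_one' := rfl
      map_mul' := fun _ _ => rfl }
  have hqF : (q : Perm α) ∈ setS G F :=
    mem_setS_of_maps (hQt q.2).1 fun x hx => maps_fixedOf hqconj hx
  refine ⟨((Q ⊓ setS G F).subgroupOf (setS G F)).map f,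
    ((hQp.to_le (inf_le_left : Q ⊓ setS G F ≤ Q)).comap_of_injective (setS G F).subtype
      (setS G F).subtype_injective).map f, ?_⟩
  ext x
  constructor
  · intro hx
    by_contra hxs
    have hxt : (x : α) ∉ t := fun h => by
      obtain ⟨z, hz, e⟩ := Finset.mem_map.1 h
      exact hxs (Subtype.ext e ▸ Finset.mem_coe.2 hz)
    have hqx : (q : Perm α) (x : α) = x :=
      congrArg Subtype.val (hx ⟨f ⟨q, hqF⟩, ⟨q, hqF⟩, ⟨q.2, hqF⟩, rfl⟩)
    -- a larger subgroup fixing `k + 1` points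
    have hle : P ⊔ Subgroup.zpowers (q : Perm α) ≤ fixS G (insert (x : α) t) := by
      refine sup_le (le_fixS_fixedOf hPG (Finset.insert_subset x.2 htF)) (Subgroup.zpowers_le.2 ⟨(hQt q.2).1, ?_⟩)
      intro z hz
      rcases Finset.mem_insert.1 hz with rfl | hz
      · exact hqx
      · exact (hQt q.2).2 z hz
    have heq := hbig _ le_sup_left (hle.trans fixS_le) (hQp.to_le (sup_le hPQ (Subgroup.zpowers_le.2 q.2))) (by
      refine le_trans ?_ (Finset.card_le_card (show insert (x : α) t ⊆ fixedOf _ from fun z hz =>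
        mem_fixedOf.2 fun g hg => (hle hg).2 z hz))
      rw [Finset.card_insert_of_notMem hxt, ht, Finset.card_map, hs])
    exact hqP (show (q : Perm α) ∈ P from heq.le (Subgroup.mem_sup_right (Subgroup.mem_zpowers _)))
  · rintro hx ⟨_, g, hg, rfl⟩
    exact Subtype.ext ((hQt hg.1).2 _ (Finset.mem_map_of_mem _ (Finset.mem_coe.1 hx)))

/-- Some `k + 1` points have all even permutations induced. -/
theorem exists_alt_set_aux : ∀ (n : ℕ) (α : Type u) [Fintype α] [DecidableEq α] (G : Subgroup (Perm α)) (k : ℕ),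
    Fintype.card α = n → 4 ≤ k → k < n → KT G k →
      ∃ Δ : Finset α, Δ.card = k + 1 ∧ ∀ σ : Perm ↥Δ, Perm.sign σ = 1 → σ ∈ Ind G Δ := by
  intro n
  induction n using Nat.strong_induction_on with
  | _ n ih =>
  intro α _ _ G k hn hk hkn hG
  classical
  subst hn
  by_cases hP : ∃ p : ℕ, p.Prime ∧ ∃ P : Subgroup (Perm α), P ≠ ⊥ ∧ P ≤ G ∧ IsPGroup p P ∧ k + 1 ≤ (fixedOf P).card
  · obtain ⟨p, hp, P₀, hP₀⟩ := hP
    haveI := Fact.mk hp
    let C : Set (Subgroup (Perm α)) := {P | P ≠ ⊥ ∧ P ≤ G ∧ IsPGroup p P ∧ k + 1 ≤ (fixedOf P).card}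
    obtain ⟨P, ⟨hPne, hPG, hPp, hPF⟩, hmax⟩ :=
      C.toFinite.exists_maximalFor (fun P : Subgroup (Perm α) => Nat.card P) C ⟨P₀, hP₀⟩
    have hKT : KT (Ind G (fixedOf P)) k := kt_fixed (by omega) hG hPG hPp hPF fun Q hPQ hQG hQp hQF =>
      (Subgroup.eq_of_le_of_card_ge hPQ (hmax ⟨fun e => hPne (le_bot_iff.1 (e ▸ hPQ)), hQG, hQp, hQF⟩
        (Subgroup.card_le_of_le hPQ))).symm
    have hlt : (fixedOf P).card < Fintype.card α := by
      refine lt_of_le_of_ne (Finset.card_le_univ _) fun e => hPne ((Subgroup.eq_bot_iff_forall _).2 fun g hg => ?_)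
      exact Equiv.ext fun x => mem_fixedOf.1 (Finset.eq_univ_of_card _ e ▸ Finset.mem_univ x) g hg
    obtain ⟨Δ, hΔ, halt⟩ := ih _ hlt (↥(fixedOf P)) (Ind G (fixedOf P)) k (Fintype.card_coe _) hk (by omega) hKT
    refine ⟨Δ.map (Function.Embedding.subtype _), by rw [Finset.card_map, hΔ], fun σ hσ => ?_⟩
    let e : ↥Δ ≃ ↥(Δ.map (Function.Embedding.subtype (· ∈ fixedOf P))) :=
      Equiv.ofBijective (fun x => ⟨((x : ↥(fixedOf P)) : α), Finset.mem_map_of_mem _ x.2⟩)
        ⟨fun a b h => Subtype.ext (Subtype.ext (congrArg Subtype.val h :)), fun y => by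
          obtain ⟨z, hz, e⟩ := Finset.mem_map.1 y.2
          exact ⟨⟨z, hz⟩, Subtype.ext e⟩⟩
    obtain ⟨τ, ⟨g, hg, hgτ⟩, hτ⟩ := halt (e.symm.permCongr σ) (by rw [Perm.sign_permCongr, hσ])
    refine ⟨g, hg, fun x => ?_⟩
    obtain ⟨z, rfl⟩ := e.surjective x
    show g ((z : ↥(fixedOf P)) : α) = _
    rw [hgτ, hτ, Equiv.permCongr_apply, Equiv.symm_symm]
    conv_rhs => rw [← e.apply_symm_apply (σ (e z))]
    rfl
  push Not at hP
  have hsr : SR G (k + 1) := by
    intro s hs g hg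
    by_contra hg1
    obtain ⟨p, hp, hpd⟩ := Nat.exists_prime_and_dvd (fun e => hg1 (orderOf_eq_one_iff.1 e) : orderOf g ≠ 1)
    haveI := Fact.mk hp
    set h := g ^ (orderOf g / p) with hh
    have ho : orderOf h = p := orderOf_pow_orderOf_div (orderOf_pos g).ne' hpd
    have hmem : h ∈ fixS G s := Subgroup.pow_mem _ hg _
    have hne : Subgroup.zpowers h ≠ ⊥ := fun e => by
      rw [Subgroup.zpowers_eq_bot] at e
      rw [e, orderOf_one] at ho
      exact hp.one_lt.ne ho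
    refine absurd (hP p hp _ hne (Subgroup.zpowers_le.2 hmem.1)
      (IsPGroup.of_card (n := 1) (by rw [Nat.card_zpowers, ho, pow_one]))) (not_lt.2 ?_)
    rw [← hs]
    exact Finset.card_le_card fun x hx => mem_fixedOf.2 fun w hw =>
      (Subgroup.zpowers_le.2 hmem hw).2 x hx
  obtain ⟨Q, -, hQ⟩ := Finset.exists_subset_card_eq (show k ≤ (Finset.univ : Finset α).card by
    rw [Finset.card_univ]; omega)
  obtain ⟨e, he⟩ : ∃ e, e ∉ Q := by
    by_contra h
    push Not at h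
    have := Finset.card_le_card (show (Finset.univ : Finset α) ⊆ Q from fun x _ => h x)
    rw [Finset.card_univ] at this
    omega
  have hcard : ∀ s : Finset α, s.card = k → Nat.card (fixS G s) = Nat.card (fixS G Q) := fun s hs =>
    (hG.homog le_rfl).card_fixS hs hQ
  have hΔ : (insert e Q).card = k + 1 := by rw [Finset.card_insert_of_notMem he, hQ]
  rcases Nat.even_or_odd (Nat.card (fixS G Q)) with hev | hod
  · have := swaps_of_even (by omega) hG hsr (fun s hs => hcard s hs ▸ hev.two_dvd) hΔ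
    exact ⟨_, hΔ, fun σ _ => this ▸ Subgroup.mem_top σ⟩
  by_cases h1 : Nat.card (fixS G Q) = 1
  · have hsr' : SR G k := fun s hs g hg => by
      have := Subgroup.card_eq_one.1 ((hcard s hs).trans h1)
      exact Subgroup.mem_bot.1 (this ▸ hg)
    have hoddcase : Odd (Fintype.card α - k) → ∃ Δ : Finset α, Δ.card = k + 1 ∧
        ∀ σ : Perm ↥Δ, Perm.sign σ = 1 → σ ∈ Ind G Δ := fun ho => by
      obtain ⟨e', he', htop⟩ := swaps_of_sharp_odd hk hG hsr' ho hQ
      exact ⟨insert e' Q, by rw [Finset.card_insert_of_notMem he', hQ], fun σ _ => htop ▸ Subgroup.mem_top σ⟩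
    rcases sharp_degrees hk hkn.le hG hsr' with h2 | ho
    swap
    · exact hoddcase ho
    rcases (show Fintype.card α - k = 1 ∨ Fintype.card α = k + 2 by omega) with h | h
    · exact hoddcase (by rw [h]; decide)
    have hcG := hG.card_eq hkn.le hQ
    rw [h1, mul_one] at hcG
    have hidx : G.index = 2 := by
      have h3 := G.card_mul_index
      rw [hcG, Nat.card_perm, Nat.card_eq_fintype_card, ← Nat.factorial_mul_descFactorial hkn.le,
        mul_comm (Nat.factorial _)] at h3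
      rw [Nat.eq_of_mul_eq_mul_left (Nat.descFactorial_pos.2 hkn.le) h3, h, Nat.add_sub_cancel_left]
      rfl
    refine ⟨_, hΔ, fun σ hσ => ⟨Perm.ofSubtype σ, ?_, fun x => Perm.ofSubtype_apply_coe σ x⟩⟩
    rw [Equiv.Perm.eq_alternatingGroup_of_index_eq_two hidx, Perm.mem_alternatingGroup, Perm.sign_ofSubtype, hσ]
  -- `k + 1`-transitive
  have hge : 3 ≤ Nat.card (fixS G Q) := by
    have := Nat.card_pos (α := fixS G Q)
    have := Nat.odd_iff.1 hod
    omega
  have hinj : ∀ c ∉ Q, Function.Injective (fun g : fixS G Q => (g : Perm α) c) := fun c hc g g' hgg => by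
    refine Subtype.ext (hsr.ext (s := insert c Q) (by rw [Finset.card_insert_of_notMem hc, hQ]) g.2.1 g'.2.1 ?_)
    intro x hx
    rcases Finset.mem_insert.1 hx with rfl | hx
    · exact hgg
    · rw [g.2.2 x hx, g'.2.2 x hx]
  let ψ : ∀ c : α, c ∉ Q → fixS G Q → {z : α // z ∉ Q} := fun c hc g =>
    ⟨(g : Perm α) c, (not_mem_of_fix g.2.2).2 hc⟩
  have hle : Nat.card (fixS G Q) ≤ Fintype.card α - k := by
    rw [← hQ, ← card_compl, ← Nat.card_eq_fintype_card]
    exact Nat.card_le_card_of_injective (ψ e he) fun a b h => hinj e he (congrArg Subtype.val h)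
  have hb : Fintype.card α - k ≤ 3 := by
    rcases odd_degree_bound hk hkn.le hG (fun s hs => hcard s hs ▸ hod) with h | ⟨h7, s, hs, h⟩
    · exact h
    · rw [hcard s hs] at h; omega
  have hsurj : ∀ s : Finset α, s.card = k → ∀ c d, c ∉ s → d ∉ s → ∃ g ∈ fixS G s, g c = d := by
    intro s hs c d hc hd
    have hinj' : Function.Injective (fun g : fixS G s => (⟨(g : Perm α) c, (not_mem_of_fix g.2.2).2 hc⟩ :
        {z : α // z ∉ s})) := fun g g' hgg => by
      refine Subtype.ext (hsr.ext (s := insert c s) (by rw [Finset.card_insert_of_notMem hc, hs]) g.2.1 g'.2.1 ?_)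
      intro x hx
      rcases Finset.mem_insert.1 hx with rfl | hx
      · exact congrArg Subtype.val hgg
      · rw [g.2.2 x hx, g'.2.2 x hx]
    obtain ⟨g, hg⟩ := ((Nat.bijective_iff_injective_and_card _).2 ⟨hinj', by
      rw [hcard s hs, Nat.card_eq_fintype_card (α := {z : α // z ∉ s}), card_compl, hs]; omega⟩).2 ⟨d, hd⟩
    exact ⟨g, g.2, congrArg Subtype.val hg⟩
  refine ⟨_, hΔ, fun σ _ => ?_⟩
  obtain ⟨g, hg, hgx⟩ := hG (Perm.ofSubtype σ) Q hQ.le
  have hQ' : (Q.image g).card = k := by rw [Finset.card_image_of_injective _ g.injective, hQ]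
  have hx1 : Perm.ofSubtype σ e ∉ Q.image g := fun h => by
    obtain ⟨z, hz, hze⟩ := Finset.mem_image.1 h
    rw [hgx z hz] at hze
    exact he ((Perm.ofSubtype σ).injective hze ▸ hz)
  obtain ⟨w, hw, hwe⟩ := hsurj _ hQ' (g e) (Perm.ofSubtype σ e) (fun h => by
    obtain ⟨z, hz, hze⟩ := Finset.mem_image.1 h
    exact he (g.injective hze ▸ hz)) hx1
  refine ⟨w * g, G.mul_mem hw.1 hg, fun x => ?_⟩
  rw [Perm.mul_apply, ← Perm.ofSubtype_apply_coe σ x]
  rcases Finset.mem_insert.1 x.2 with h | h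
  · rw [h, hwe]
  · rw [hw.2 _ (Finset.mem_image_of_mem _ h), hgx _ h]

theorem exists_alt_set {k : ℕ} (hk : 4 ≤ k) (hkn : k < Fintype.card α) (hG : KT G k) :
    ∃ Δ : Finset α, Δ.card = k + 1 ∧ ∀ σ : Perm ↥Δ, Perm.sign σ = 1 → σ ∈ Ind G Δ :=
  exists_alt_set_aux _ α G k rfl hk hkn hG

end CfsgLivWag
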