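import Mathlib

/-!
Permutation groups: partial maps realised by group elements, induced groups on finite sets, and the
basic order formulas for multiply transitive and homogeneous groups.
-/

set_option autoImplicit false
set_option linter.unusedSectionVars false

namespace CfsgLivWag

open Equiv

variable {α : Type*} [Fintype α] [DecidableEq α]

omit [Fintype α] [DecidableEq α] in
theorem app_inv (g : Perm α) (x : α) : g (g⁻¹ x) = x := g.apply_symm_apply x

omit [Fintype α] [DecidableEq α] in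
theorem inv_app (g : Perm α) (x : α) : g⁻¹ (g x) = x := g.symm_apply_apply x

/-- Every partial map on at most `k` points is realised in `G`. -/
def KT (G : Subgroup (Perm α)) (k : ℕ) : Prop :=
  ∀ (σ : Perm α) (s : Finset α), s.card ≤ k → ∃ g ∈ G, ∀ x ∈ s, g x = σ x

/-- Any two `j`-sets are moved to each other. -/
def Homog (G : Subgroup (Perm α)) (j : ℕ) : Prop :=
  ∀ s t : Finset α, s.card = j → t.card = j → ∃ g ∈ G, s.image g = t

/-- The pointwise stabiliser of a finite set. -/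
def fixS (G : Subgroup (Perm α)) (s : Finset α) : Subgroup (Perm α) where
  carrier := {g | g ∈ G ∧ ∀ x ∈ s, g x = x}
  one_mem' := ⟨G.one_mem, fun _ _ => rfl⟩
  mul_mem' := fun {a b} ha hb => ⟨G.mul_mem ha.1 hb.1, fun x hx => by rw [Perm.mul_apply, hb.2 x hx, ha.2 x hx]⟩
  inv_mem' := fun {a} ha => ⟨G.inv_mem ha.1, fun x hx => Perm.inv_eq_iff_eq.2 (ha.2 x hx).symm⟩

theorem mem_fixS {G : Subgroup (Perm α)} {s : Finset α} {g : Perm α} :
    g ∈ fixS G s ↔ g ∈ G ∧ ∀ x ∈ s, g x = x := Iff.rfl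

theorem fixS_le {G : Subgroup (Perm α)} {s : Finset α} : fixS G s ≤ G := fun _ h => h.1

theorem fixS_anti {G : Subgroup (Perm α)} {s t : Finset α} (h : s ⊆ t) : fixS G t ≤ fixS G s :=
  fun _ hg => ⟨hg.1, fun x hx => hg.2 x (h hx)⟩

theorem card_fixS_anti {G : Subgroup (Perm α)} {s t : Finset α} (h : s ⊆ t) :
    Nat.card (fixS G t) ∣ Nat.card (fixS G s) := Subgroup.card_dvd_of_le (fixS_anti h)

/-- The setwise stabiliser of a finite set. -/
def setS (G : Subgroup (Perm α)) (s : Finset α) : Subgroup (Perm α) where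
  carrier := {g | g ∈ G ∧ ∀ x, g x ∈ s ↔ x ∈ s}
  one_mem' := ⟨G.one_mem, fun _ => Iff.rfl⟩
  mul_mem' := fun {a b} ha hb => ⟨G.mul_mem ha.1 hb.1, fun x => by rw [Perm.mul_apply, ha.2, hb.2]⟩
  inv_mem' := fun {a} ha => ⟨G.inv_mem ha.1, fun x => by
    conv_rhs => rw [← app_inv a x, ha.2]⟩

theorem mem_setS_iff {G : Subgroup (Perm α)} {s : Finset α} {g : Perm α} :
    g ∈ setS G s ↔ g ∈ G ∧ ∀ x, g x ∈ s ↔ x ∈ s := Iff.rfl

theorem mem_setS_of_maps {G : Subgroup (Perm α)} {s : Finset α} {g : Perm α} (hg : g ∈ G)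
    (h : ∀ x ∈ s, g x ∈ s) : g ∈ setS G s := by
  refine ⟨hg, fun x => ⟨fun hx => ?_, h x⟩⟩
  have e : s.image g = s := Finset.eq_of_subset_of_card_le (fun y hy => by
    obtain ⟨z, hz, rfl⟩ := Finset.mem_image.1 hy; exact h z hz)
    (by rw [Finset.card_image_of_injective _ g.injective])
  rw [← e] at hx
  obtain ⟨z, hz, hzx⟩ := Finset.mem_image.1 hx
  exact g.injective hzx ▸ hz

/-- The group induced on a finite set. -/
def Ind (G : Subgroup (Perm α)) (s : Finset α) : Subgroup (Perm ↥s) where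
  carrier := {σ | ∃ g ∈ G, ∀ x : ↥s, g (x : α) = σ x}
  one_mem' := ⟨1, G.one_mem, fun _ => rfl⟩
  mul_mem' := by
    rintro σ τ ⟨g, hg, h⟩ ⟨g', hg', h'⟩
    exact ⟨g * g', G.mul_mem hg hg', fun x => by rw [Perm.mul_apply, h', h]; rfl⟩
  inv_mem' := by
    rintro σ ⟨g, hg, h⟩
    exact ⟨g⁻¹, G.inv_mem hg, fun x => Perm.inv_eq_iff_eq.2 (by rw [h, app_inv])⟩

theorem mem_ind {G : Subgroup (Perm α)} {s : Finset α} {σ : Perm ↥s} :
    σ ∈ Ind G s ↔ ∃ g ∈ G, ∀ x : ↥s, g (x : α) = σ x := Iff.rfl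

/-- An element of `G` exchanges `x` and `y` and fixes the other points of `s`. -/
def HasSwap (G : Subgroup (Perm α)) (s : Finset α) (x y : α) : Prop :=
  ∃ g ∈ G, g x = y ∧ g y = x ∧ ∀ z ∈ s, z ≠ x → z ≠ y → g z = z

theorem swap_mem_ind {G : Subgroup (Perm α)} {s : Finset α} {x y : α} (hx : x ∈ s) (hy : y ∈ s)
    (h : HasSwap G s x y) : Equiv.swap (⟨x, hx⟩ : ↥s) ⟨y, hy⟩ ∈ Ind G s := by
  obtain ⟨g, hg, gx, gy, gz⟩ := h
  refine ⟨g, hg, fun z => ?_⟩
  rcases eq_or_ne z ⟨x, hx⟩ with rfl | h1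
  · rw [Equiv.swap_apply_left]; exact gx
  rcases eq_or_ne z ⟨y, hy⟩ with rfl | h2
  · rw [Equiv.swap_apply_right]; exact gy
  rw [Equiv.swap_apply_of_ne_of_ne h1 h2]
  exact gz z z.2 (fun e => h1 (Subtype.ext e)) (fun e => h2 (Subtype.ext e))

theorem hasSwap_of_mem_ind {G : Subgroup (Perm α)} {s : Finset α} {a b : ↥s}
    (h : Equiv.swap a b ∈ Ind G s) : HasSwap G s a b := by
  obtain ⟨g, hg, hz⟩ := h
  refine ⟨g, hg, by rw [hz, Equiv.swap_apply_left], by rw [hz, Equiv.swap_apply_right], fun z hzs h1 h2 => ?_⟩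
  have := hz ⟨z, hzs⟩
  rw [Equiv.swap_apply_of_ne_of_ne (fun e => h1 (congrArg Subtype.val e)) (fun e => h2 (congrArg Subtype.val e))]
    at this
  exact this

/-- The transpositions through one point generate everything. -/
theorem ind_top_of_swaps {G : Subgroup (Perm α)} {s : Finset α} {e : α} (he : e ∈ s)
    (h : ∀ x ∈ s, x ≠ e → HasSwap G s x e) : Ind G s = ⊤ := by
  have h1 : ∀ x : ↥s, Equiv.swap x ⟨e, he⟩ ∈ Ind G s := fun x => by
    rcases eq_or_ne (x : α) e with hx | hx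
    · rw [show x = (⟨e, he⟩ : ↥s) from Subtype.ext hx, Equiv.swap_self]; exact one_mem _
    · exact swap_mem_ind x.2 he (h x x.2 hx)
  rw [eq_top_iff, ← Perm.closure_isSwap, Subgroup.closure_le]
  rintro σ ⟨a, b, hab, rfl⟩
  rcases eq_or_ne b ⟨e, he⟩ with rfl | hb
  · exact h1 a
  rcases eq_or_ne a ⟨e, he⟩ with rfl | ha
  · rw [Equiv.swap_comm]; exact h1 b
  -- `(a b) = (b e) (a e) (b e)`
  have key : Equiv.swap a b = Equiv.swap b ⟨e, he⟩ * Equiv.swap a ⟨e, he⟩ * Equiv.swap b ⟨e, he⟩ := by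
    rw [Equiv.swap_comm b ⟨e, he⟩, Equiv.swap_mul_swap_mul_swap ha hab, Equiv.swap_comm]
  rw [key]
  exact mul_mem (mul_mem (h1 b) (h1 a)) (h1 b)

/-- The alternating group and one transposition generate everything. -/
theorem ind_top_of_alt_swap {G : Subgroup (Perm α)} {s : Finset α}
    (halt : ∀ σ : Perm ↥s, Perm.sign σ = 1 → σ ∈ Ind G s) {x y : α} (hx : x ∈ s) (hy : y ∈ s) (hxy : x ≠ y)
    (h : HasSwap G s x y) : Ind G s = ⊤ := by
  have hw := swap_mem_ind hx hy h
  refine (Subgroup.eq_top_iff' _).2 fun σ => ?_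
  rcases Int.units_eq_one_or (Perm.sign σ) with e | e
  · exact halt σ e
  · have := halt (σ * Equiv.swap ⟨x, hx⟩ ⟨y, hy⟩) (by
      rw [map_mul, e, Perm.sign_swap (fun h => hxy (congrArg Subtype.val h))]; decide)
    exact (Subgroup.mul_mem_cancel_right _ hw).1 this

/-- Induced elements are transported by elements of `G`. -/
theorem ind_transport {G : Subgroup (Perm α)} {s t : Finset α} {g : Perm α} (hg : g ∈ G) (hst : s.image g = t) :
    ∃ e : ↥s ≃ ↥t, ∀ σ : Perm ↥s, σ ∈ Ind G s → e.permCongr σ ∈ Ind G t := by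
  have hmem : ∀ x, x ∈ s ↔ g x ∈ t := fun x => by
    rw [← hst, Finset.mem_image]
    exact ⟨fun h => ⟨x, h, rfl⟩, fun ⟨z, hz, e⟩ => g.injective e ▸ hz⟩
  refine ⟨g.subtypeEquiv hmem, fun σ ⟨f, hf, h⟩ => ⟨g * f * g⁻¹, G.mul_mem (G.mul_mem hg hf) (G.inv_mem hg), ?_⟩⟩
  intro x
  obtain ⟨z, rfl⟩ := (g.subtypeEquiv hmem).surjective x
  rw [Equiv.permCongr_apply, Equiv.symm_apply_apply]
  simp [Equiv.subtypeEquiv_apply, h z]

theorem exists_perm_of_injOn {s : Finset α} {f : α → α} (hf : Set.InjOn f s) :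
    ∃ σ : Perm α, ∀ x ∈ s, σ x = f x := by
  let e : ↥s ≃ ↥(s.image f) := Equiv.ofBijective (fun x => ⟨f x, Finset.mem_image_of_mem f x.2⟩)
    ⟨fun x y h => Subtype.ext (hf x.2 y.2 (congrArg Subtype.val h)), fun y => by
      obtain ⟨x, hx, e⟩ := Finset.mem_image.1 y.2
      exact ⟨⟨x, hx⟩, Subtype.ext e⟩⟩
  exact ⟨e.extendSubtype, fun x hx => e.extendSubtype_apply_of_mem x hx⟩

theorem KT.mono {G : Subgroup (Perm α)} {j k : ℕ} (h : KT G k) (hjk : j ≤ k) : KT G j :=
  fun σ s hs => h σ s (hs.trans hjk)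

theorem kt_zero (G : Subgroup (Perm α)) : KT G 0 := fun σ s hs =>
  ⟨1, G.one_mem, fun x hx => absurd (Finset.card_pos.2 ⟨x, hx⟩) (by omega)⟩

theorem kt_iff {G : Subgroup (Perm α)} {k : ℕ} (hk : k ≤ Fintype.card α) :
    KT G k ↔ MulAction.IsMultiplyPretransitive G α k := by
  rw [MulAction.isMultiplyPretransitive_iff]
  constructor
  · intro h x y
    obtain ⟨σ, hσ⟩ := exists_perm_of_injOn (s := Finset.univ.map x)
      (f := fun z => if hz : ∃ i, x i = z then y hz.choose else z) (by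
        intro a ha b hb e
        simp only [Finset.coe_map, Finset.coe_univ, Set.image_univ, Set.mem_range] at ha hb
        dsimp only at e
        rw [dif_pos ha, dif_pos hb] at e
        rw [← ha.choose_spec, ← hb.choose_spec, y.injective e])
    obtain ⟨g, hg, hgx⟩ := h σ (Finset.univ.map x) (by simp)
    refine ⟨⟨g, hg⟩, Function.Embedding.ext fun i => ?_⟩
    show g (x i) = y i
    have hmem : x i ∈ Finset.univ.map x := Finset.mem_map_of_mem x (Finset.mem_univ i)
    rw [hgx _ hmem, hσ _ hmem, dif_pos ⟨i, rfl⟩]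
    have hex : ∃ j, x j = x i := ⟨i, rfl⟩
    exact congrArg y (x.injective hex.choose_spec)
  · intro h σ s hs
    obtain ⟨s', hss, hs'⟩ := Finset.exists_superset_card_eq hs hk
    let x : Fin k ↪ α := (Finset.equivFinOfCardEq hs').symm.toEmbedding.trans (Function.Embedding.subtype _)
    obtain ⟨g, hg⟩ := h x (x.trans σ.toEmbedding)
    refine ⟨g, g.2, fun z hz => ?_⟩
    have e := DFunLike.congr_fun hg (Finset.equivFinOfCardEq hs' ⟨z, hss hz⟩)
    simpa [x, Subgroup.smul_def, Perm.smul_def] using e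

theorem homog_of_pretransitive {G : Subgroup (Perm α)} {j : ℕ}
    (h : MulAction.IsPretransitive G (Set.powersetCard α j)) : Homog G j := fun s t hs ht => by
  obtain ⟨g, hg⟩ := h.exists_smul_eq (Set.powersetCard.ofCard hs) (Set.powersetCard.ofCard ht)
  refine ⟨g, g.2, ?_⟩
  open scoped Pointwise in
  have h1 : g • s = t := congrArg Subtype.val hg
  exact h1

theorem KT.homog {G : Subgroup (Perm α)} {k : ℕ} (h : KT G k) {j : ℕ} (hj : j ≤ k) : Homog G j := by
  intro s t hs ht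
  let e : ↥s ≃ ↥t := (Finset.equivFinOfCardEq hs).trans (Finset.equivFinOfCardEq ht).symm
  obtain ⟨g, hg, hgs⟩ := h e.extendSubtype s (by omega)
  refine ⟨g, hg, Finset.eq_of_subset_of_card_le (fun y hy => ?_) ?_⟩
  · obtain ⟨x, hx, rfl⟩ := Finset.mem_image.1 hy
    rw [hgs x hx]; exact e.extendSubtype_mem x hx
  · rw [Finset.card_image_of_injective _ g.injective, hs, ht]

/-- A `j`-homogeneous group inducing the full group on one `j`-set is `j`-transitive. -/
theorem kt_of_ind_top {G : Subgroup (Perm α)} {j : ℕ} (hj : j ≤ Fintype.card α) (hh : Homog G j) {Δ : Finset α}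
    (hΔ : Δ.card = j) (htop : Ind G Δ = ⊤) : KT G j := by
  intro σ s hs
  obtain ⟨s', hss, hs'⟩ := Finset.exists_superset_card_eq hs hj
  obtain ⟨g₀, hg₀, e₀⟩ := hh Δ s' hΔ hs'
  obtain ⟨g₁, hg₁, e₁⟩ := hh Δ (s'.image σ) hΔ (by rw [Finset.card_image_of_injective _ σ.injective, hs'])
  have hmem : ∀ x, x ∈ Δ ↔ (g₁⁻¹ * σ * g₀) x ∈ Δ := fun x => by
    have i1 : g₁⁻¹ (σ (g₀ x)) ∈ Δ ↔ g₁ (g₁⁻¹ (σ (g₀ x))) ∈ Δ.image g₁ :=
      (Finset.mem_image.trans ⟨fun ⟨z, hz, e⟩ => g₁.injective e ▸ hz, fun h => ⟨_, h, rfl⟩⟩).symm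
    rw [Perm.mul_apply, Perm.mul_apply, i1, e₁, app_inv, Finset.mem_image]
    constructor
    · intro hx; exact ⟨g₀ x, e₀ ▸ Finset.mem_image_of_mem _ hx, rfl⟩
    · rintro ⟨z, hz, e⟩
      rw [σ.injective e, ← e₀] at hz
      obtain ⟨w, hw, e'⟩ := Finset.mem_image.1 hz
      exact g₀.injective e' ▸ hw
  obtain ⟨f, hf, hfe⟩ : (g₁⁻¹ * σ * g₀).subtypePerm (fun x => (hmem x).symm) ∈ Ind G Δ := htop ▸ Subgroup.mem_top _
  refine ⟨g₁ * f * g₀⁻¹, G.mul_mem (G.mul_mem hg₁ hf) (G.inv_mem hg₀), fun x hx => ?_⟩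
  have hx' : g₀⁻¹ x ∈ Δ := by
    have := hss hx
    rw [← e₀] at this
    obtain ⟨z, hz, e⟩ := Finset.mem_image.1 this
    rw [← e, inv_app]; exact hz
  have := hfe ⟨_, hx'⟩
  rw [Perm.subtypePerm_apply] at this
  simp only at this
  rw [Perm.mul_apply, Perm.mul_apply, this]
  simp

/-- The order of a multiply transitive group. -/
theorem KT.card_eq {G : Subgroup (Perm α)} {k : ℕ} (h : KT G k) (hk : k ≤ Fintype.card α) {s : Finset α}
    (hs : s.card = k) : Nat.card G = (Fintype.card α).descFactorial k * Nat.card (fixS G s) := by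
  haveI hp : MulAction.IsPretransitive G (Fin k ↪ α) := (kt_iff hk).1 h
  let x : Fin k ↪ α := (Finset.equivFinOfCardEq hs).symm.toEmbedding.trans (Function.Embedding.subtype _)
  have h1 := (MulAction.stabilizer G x).card_mul_index
  have horb : MulAction.orbit G x = Set.univ := Set.eq_univ_iff_forall.2 fun y => by
    obtain ⟨g, hg⟩ := hp.exists_smul_eq x y
    exact ⟨g, hg⟩
  have h2 : (MulAction.orbit G x).ncard = (Fintype.card α).descFactorial k := by
    rw [horb, Set.ncard_univ, Nat.card_eq_fintype_card, Fintype.card_embedding_eq, Fintype.card_fin]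
  have h3 : (MulAction.stabilizer G x).index = (Fintype.card α).descFactorial k :=
    (MulAction.index_stabilizer G x).trans h2
  rw [h3] at h1
  have e : MulAction.stabilizer G x = (fixS G s).subgroupOf G := by
    ext g
    rw [MulAction.mem_stabilizer_iff, Subgroup.mem_subgroupOf, mem_fixS]
    constructor
    · intro hg
      refine ⟨g.2, fun z hz => ?_⟩
      have := DFunLike.congr_fun hg (Finset.equivFinOfCardEq hs ⟨z, hz⟩)
      simpa [x, Subgroup.smul_def, Perm.smul_def] using this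
    · intro hg
      exact Function.Embedding.ext fun i => hg.2 _ ((Finset.equivFinOfCardEq hs).symm i).2
  rw [e, Nat.card_congr (Subgroup.subgroupOfEquivOfLe fixS_le).toEquiv] at h1
  rw [← h1, mul_comm]

/-- The order of a homogeneous group. -/
theorem Homog.card_eq {G : Subgroup (Perm α)} {j : ℕ} (h : Homog G j) {s : Finset α} (hs : s.card = j) :
    Nat.card G = (Fintype.card α).choose j * Nat.card (setS G s) := by
  open scoped Pointwise in
  have h1 := (MulAction.stabilizer G s).card_mul_index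
  open scoped Pointwise in
  rw [MulAction.index_stabilizer] at h1
  have eo : (open scoped Pointwise in MulAction.orbit G s) = ↑((Finset.univ : Finset α).powersetCard j) := by
    ext t
    simp only [Finset.mem_coe, Finset.mem_powersetCard, Finset.subset_univ, true_and]
    constructor
    · rintro ⟨g, rfl⟩
      show (open scoped Pointwise in g • s).card = j
      rw [Finset.card_smul_finset, hs]
    · intro ht
      obtain ⟨g, hg, e⟩ := h s t hs ht
      exact ⟨⟨g, hg⟩, e⟩
  rw [eo, Set.ncard_coe_finset, Finset.card_powersetCard, Finset.card_univ] at h1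
  open scoped Pointwise in
  have es : MulAction.stabilizer G s = (setS G s).subgroupOf G := by
    ext g
    rw [MulAction.mem_stabilizer_iff, Subgroup.mem_subgroupOf]
    constructor
    · intro hg
      refine mem_setS_of_maps g.2 fun x hx => ?_
      have h2 : g • x ∈ g • s := Finset.smul_mem_smul_finset hx
      rw [hg] at h2
      exact h2
    · intro hg
      refine Finset.eq_of_subset_of_card_le (fun y hy => ?_) (by rw [Finset.card_smul_finset])
      obtain ⟨x, hx, rfl⟩ := Finset.mem_smul_finset.1 hy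
      exact (hg.2 x).2 hx
  rw [es, Nat.card_congr (Subgroup.subgroupOfEquivOfLe (fun g hg => hg.1 : setS G s ≤ G)).toEquiv] at h1
  rw [← h1, mul_comm]

/-- Without kernel, the setwise stabiliser is the induced group. -/
theorem card_ind {G : Subgroup (Perm α)} {s : Finset α} (h : ∀ g ∈ fixS G s, g = 1) :
    Nat.card (Ind G s) = Nat.card (setS G s) := by
  let f : setS G s →* Perm ↥s :=
    { toFun := fun g => (g : Perm α).subtypePerm (fun x => g.2.2 x)
      map_one' := rfl
      map_mul' := fun _ _ => rfl }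
  have hf : Function.Injective f := by
    refine (injective_iff_map_eq_one f).2 fun g hg => Subtype.ext (h g ⟨g.2.1, fun x hx => ?_⟩)
    exact congrArg Subtype.val (Equiv.congr_fun hg ⟨x, hx⟩)
  have hr : f.range = Ind G s := by
    ext σ
    constructor
    · rintro ⟨g, rfl⟩; exact ⟨g, g.2.1, fun _ => rfl⟩
    · rintro ⟨g, hg, hgs⟩
      exact ⟨⟨g, mem_setS_of_maps hg fun x hx => by rw [hgs ⟨x, hx⟩]; exact (σ ⟨x, hx⟩).2⟩,
        Equiv.ext fun x => Subtype.ext (hgs x)⟩
  rw [← hr]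
  exact Nat.card_congr (MonoidHom.ofInjective hf).toEquiv.symm

theorem fixS_conj {G : Subgroup (Perm α)} {s t : Finset α} {g : Perm α} (hg : g ∈ G) (h : s.image g = t) :
    (fixS G s).map (MulAut.conj g).toMonoidHom = fixS G t := by
  ext w
  constructor
  · rintro ⟨v, hv, rfl⟩
    refine ⟨G.mul_mem (G.mul_mem hg hv.1) (G.inv_mem hg), fun y hy => ?_⟩
    rw [← h] at hy
    obtain ⟨x, hx, rfl⟩ := Finset.mem_image.1 hy
    show g (v (g⁻¹ (g x))) = g x
    rw [inv_app, hv.2 x hx]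
  · intro hw
    refine ⟨g⁻¹ * w * g, ⟨G.mul_mem (G.mul_mem (G.inv_mem hg) hw.1) hg, fun x hx => ?_⟩, ?_⟩
    · have hgx : g x ∈ t := h ▸ Finset.mem_image_of_mem _ hx
      rw [Perm.mul_apply, Perm.mul_apply, hw.2 _ hgx, inv_app]
    · show g * (g⁻¹ * w * g) * g⁻¹ = w
      group

theorem Homog.card_fixS {G : Subgroup (Perm α)} {j : ℕ} (h : Homog G j) {s t : Finset α} (hs : s.card = j)
    (ht : t.card = j) : Nat.card (fixS G s) = Nat.card (fixS G t) := by
  obtain ⟨g, hg, e⟩ := h s t hs ht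
  rw [← fixS_conj hg e, Subgroup.card_map_of_injective (MulAut.conj g).injective]

/-- An involution in a subgroup of even order. -/
theorem exists_involution {K : Subgroup (Perm α)} (h : 2 ∣ Nat.card K) :
    ∃ u ∈ K, u ≠ 1 ∧ u * u = 1 := by
  haveI : Fact (Nat.Prime 2) := ⟨Nat.prime_two⟩
  obtain ⟨u, hu⟩ := exists_prime_orderOf_dvd_card' (G := K) 2 h
  refine ⟨u, u.2, fun e => ?_, ?_⟩
  · have : u = 1 := Subtype.ext e
    rw [this, orderOf_one] at hu
    omega
  · have := pow_orderOf_eq_one u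
    rw [hu, pow_two] at this
    exact congrArg Subtype.val this

theorem odd_card_of_no_involution {K : Subgroup (Perm α)} (h : ∀ u ∈ K, u * u = 1 → u = 1) :
    Odd (Nat.card K) := by
  rw [Nat.odd_iff]
  by_contra e
  obtain ⟨u, hu, h1, h2⟩ := exists_involution (K := K) (Nat.dvd_of_mod_eq_zero (by omega))
  exact h1 (h u hu h2)

/-- The pointwise stabiliser, as a group on the other points. -/
def off (G : Subgroup (Perm α)) (T : Finset α) : Subgroup (Perm {z : α // z ∉ T}) where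
  carrier := {σ | ∃ g ∈ fixS G T, ∀ z : {z : α // z ∉ T}, g (z : α) = σ z}
  one_mem' := ⟨1, Subgroup.one_mem _, fun _ => rfl⟩
  mul_mem' := by
    rintro σ τ ⟨g, hg, h⟩ ⟨g', hg', h'⟩
    exact ⟨g * g', Subgroup.mul_mem _ hg hg', fun x => by rw [Perm.mul_apply, h', h]; rfl⟩
  inv_mem' := by
    rintro σ ⟨g, hg, h⟩
    exact ⟨g⁻¹, Subgroup.inv_mem _ hg, fun x => Perm.inv_eq_iff_eq.2 (by rw [h, app_inv])⟩

theorem not_mem_of_fix {T : Finset α} {g : Perm α} (h : ∀ x ∈ T, g x = x) {z : α} :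
    g z ∉ T ↔ z ∉ T := by
  refine ⟨fun hz hzT => hz ((h z hzT).symm ▸ hzT), fun hz hgz => hz ?_⟩
  have : g (g z) = g z := h _ hgz
  exact g.injective this ▸ hgz

theorem card_compl (T : Finset α) : Fintype.card {z : α // z ∉ T} = Fintype.card α - T.card := by
  rw [Fintype.card_subtype_compl, Fintype.card_coe]

/-- The embedding of the other points. -/
abbrev liftSet (T : Finset α) (s : Finset {z : α // z ∉ T}) : Finset α := s.map (Function.Embedding.subtype _)

theorem card_union_lift (T : Finset α) (s : Finset {z : α // z ∉ T}) : (T ∪ liftSet T s).card = T.card + s.card := by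
  rw [Finset.card_union_of_disjoint, Finset.card_map]
  rw [Finset.disjoint_left]
  intro x hx hx'
  obtain ⟨z, -, rfl⟩ := Finset.mem_map.1 hx'
  exact z.2 hx

theorem KT.off {G : Subgroup (Perm α)} {k : ℕ} (h : KT G k) (T : Finset α) (hT : T.card ≤ k) :
    KT (off G T) (k - T.card) := by
  intro σ s hs
  obtain ⟨g, hg, hgx⟩ := h (Perm.ofSubtype σ) (T ∪ liftSet T s) (by rw [card_union_lift]; omega)
  have hfix : ∀ x ∈ T, g x = x := fun x hx => by
    rw [hgx x (Finset.mem_union_left _ hx), Perm.ofSubtype_apply_of_not_mem]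
    exact fun h => h hx
  refine ⟨g.subtypePerm (fun z => not_mem_of_fix hfix), ⟨g, ⟨hg, hfix⟩, fun _ => rfl⟩, fun z hz => Subtype.ext ?_⟩
  show g z = (σ z : α)
  rw [hgx z (Finset.mem_union_right _ (Finset.mem_map_of_mem _ hz)), Perm.ofSubtype_apply_coe]

theorem card_fixS_off (G : Subgroup (Perm α)) (T : Finset α) (s : Finset {z : α // z ∉ T}) :
    Nat.card (fixS (off G T) s) = Nat.card (fixS G (T ∪ liftSet T s)) := by
  refine (Nat.card_congr (Equiv.ofBijective (fun g : fixS G (T ∪ liftSet T s) =>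
    (⟨(g : Perm α).subtypePerm (fun z => not_mem_of_fix fun x hx => g.2.2 x (Finset.mem_union_left _ hx)),
      ⟨⟨g, ⟨g.2.1, fun x hx => g.2.2 x (Finset.mem_union_left _ hx)⟩, fun _ => rfl⟩,
        fun z hz => Subtype.ext (g.2.2 z (Finset.mem_union_right _ (Finset.mem_map_of_mem _ hz)))⟩⟩ :
      fixS (off G T) s)) ⟨?_, ?_⟩)).symm
  · intro a b e
    refine Subtype.ext (Equiv.ext fun z => ?_)
    by_cases hz : z ∈ T
    · rw [a.2.2 z (Finset.mem_union_left _ hz), b.2.2 z (Finset.mem_union_left _ hz)]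
    · exact congrArg (fun f : fixS (off G T) s => (((f : Perm {z : α // z ∉ T}) ⟨z, hz⟩ : {z : α // z ∉ T}) : α)) e
  · rintro ⟨σ, ⟨g, hg, hgz⟩, hs⟩
    refine ⟨⟨g, hg.1, fun x hx => ?_⟩, Subtype.ext (Equiv.ext fun z => Subtype.ext (hgz z))⟩
    rcases Finset.mem_union.1 hx with hx | hx
    · exact hg.2 x hx
    · obtain ⟨z, hz, rfl⟩ := Finset.mem_map.1 hx
      show g z = z
      rw [hgz, hs z hz]

end CfsgLivWag
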