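import Cfsg.Agent.Lib.LivWag.Basic

/-!
Groups of prime degree with one Sylow subgroup, signs of involutions, counting in finite sets of permutations.
-/

set_option autoImplicit false
set_option linter.unusedSectionVars false

namespace CfsgLivWag

open Equiv

variable {α : Type*} [Fintype α] [DecidableEq α]

/-- An element that moves nothing is trivial. -/
theorem exists_moved {g : Perm α} (h : g ≠ 1) : ∃ x, g x ≠ x := by
  by_contra hno
  push Not at hno
  exact h (Equiv.ext hno)

/-- An involution: twice the number of transpositions is the number of moved points. -/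
theorem sign_invol {u : Perm α} (hu : u * u = 1) :
    2 ∣ u.support.card ∧ Perm.sign u = (-1) ^ (u.support.card / 2) := by
  have ho : orderOf u ∣ 2 := orderOf_dvd_of_pow_eq_one (by rw [pow_two, hu])
  have hc : u.cycleType = Multiset.replicate (Multiset.card u.cycleType) 2 :=
    Multiset.eq_replicate_card.2 fun m hm => by
      have h1 := Nat.le_of_dvd (by norm_num) ((Perm.dvd_of_mem_cycleType hm).trans ho)
      have h2 := Perm.two_le_of_mem_cycleType hm
      omega
  have hs : u.support.card = 2 * Multiset.card u.cycleType := by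
    rw [← Perm.sum_cycleType]
    conv_lhs => rw [hc]
    rw [Multiset.sum_replicate, smul_eq_mul, mul_comm]
  refine ⟨⟨_, hs⟩, ?_⟩
  rw [Perm.sign_of_cycleType, Perm.sum_cycleType, hs, Nat.mul_div_cancel_left _ (by norm_num),
    show 2 * Multiset.card u.cycleType + Multiset.card u.cycleType =
      Multiset.card u.cycleType + 2 * Multiset.card u.cycleType by ring, pow_add, pow_mul, neg_one_sq, one_pow,
    mul_one]

/-- The number of fixed points. -/
theorem card_fixed_add_support (g : Perm α) :
    (Finset.univ.filter fun x => g x = x).card + g.support.card = Fintype.card α := by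
  have h : g.support = Finset.univ.filter fun x => ¬ g x = x := by ext x; simp
  rw [h, Finset.card_filter_add_card_filter_not, Finset.card_univ]

open Classical in
/-- A subgroup as a finite set. -/
noncomputable def elts (K : Subgroup (Perm α)) : Finset (Perm α) := Finset.univ.filter fun g => g ∈ K

theorem mem_elts {K : Subgroup (Perm α)} {g : Perm α} : g ∈ elts K ↔ g ∈ K := by simp [elts]

theorem card_elts (K : Subgroup (Perm α)) : (elts K).card = Nat.card K := by
  classical
  rw [elts, Nat.card_eq_fintype_card, ← Fintype.card_subtype]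

/-- Prime degree, one Sylow subgroup: point stabilisers embed in the automorphisms of the Sylow subgroup. -/
theorem prime_stab {H : Subgroup (Perm α)} {p q : ℕ} (hp : p.Prime) (hn : Fintype.card α = p)
    (hcard : Nat.card H = p * q) (hq : ¬ p ∣ q) (huniq : ∀ d : ℕ, d ∣ q → d % p = 1 → d = 1) (b : α) :
    Nat.card (fixS H {b}) ∣ p - 1 ∧
      ∀ u ∈ fixS H {b}, ∀ v ∈ fixS H {b}, u * u = 1 → v * v = 1 → u ≠ 1 → v ≠ 1 → u = v := by
  classical
  haveI := Fact.mk hp
  obtain ⟨S⟩ : Nonempty (Sylow p H) := Sylow.nonempty
  have hq0 : q ≠ 0 := fun e => hq (e ▸ dvd_zero p)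
  have hS : Nat.card (S : Subgroup H) = p := by
    rw [S.card_eq_multiplicity, hcard, Nat.factorization_mul hp.ne_zero hq0, Finsupp.add_apply,
      hp.factorization_self, Nat.factorization_eq_zero_of_not_dvd hq, add_zero, pow_one]
  have hidx : (S : Subgroup H).index = q := by
    have h1 := (S : Subgroup H).card_mul_index
    rw [hS, hcard] at h1
    exact Nat.eq_of_mul_eq_mul_left hp.pos h1
  have h1 : Nat.card (Sylow p H) = 1 := by
    refine huniq _ (hidx ▸ S.card_dvd_index) ?_
    have h := card_sylow_modEq_one p H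
    rw [Nat.ModEq, Nat.mod_eq_of_lt hp.one_lt] at h
    exact h
  haveI : Subsingleton (Sylow p H) := (Nat.card_eq_one_iff_unique.1 h1).1
  haveI : (S : Subgroup H).Normal := S.normal_of_subsingleton
  haveI hcyc : IsCyclic (S : Subgroup H) := isCyclic_of_prime_card hS
  obtain ⟨y, hy⟩ := exists_prime_orderOf_dvd_card' (G := (S : Subgroup H)) p (by rw [hS])
  set w : Perm α := ((y : H) : Perm α) with hw
  have how : orderOf w = p := by rw [hw, Subgroup.orderOf_coe, Subgroup.orderOf_coe, hy]
  have hwc : w.IsCycle := Perm.isCycle_of_prime_order (by rwa [how])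
    (by rw [how]; have := hp.pos; exact lt_of_le_of_lt (Finset.card_le_univ _) (by omega))
  have hwsupp : ∀ x, w x ≠ x := fun x => by
    have hu : w.support = Finset.univ := Finset.eq_univ_of_card _ (by rw [← hwc.orderOf, how, hn])
    exact Perm.mem_support.1 (hu ▸ Finset.mem_univ x)
  let f : fixS H {b} →* MulAut (S : Subgroup H) :=
    MulAut.conjNormal.comp (Subgroup.inclusion (fixS_le : fixS H {b} ≤ H))
  have hf : Function.Injective f := by
    refine (injective_iff_map_eq_one f).2 fun g hg => Subtype.ext (Equiv.ext fun z => ?_)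
    have hcomm : (g : Perm α) * w * (g : Perm α)⁻¹ = w :=
      congrArg (fun t : MulAut (S : Subgroup H) => (((t y : (S : Subgroup H)) : H) : Perm α)) hg
    have hcomm' : Commute (g : Perm α) w := mul_inv_eq_iff_eq_mul.1 hcomm
    have hgb : (g : Perm α) b = b := g.2.2 b (Finset.mem_singleton_self b)
    obtain ⟨i, hi⟩ := hwc.exists_zpow_eq (hwsupp b) (hwsupp z)
    show (g : Perm α) z = z
    rw [← hi, ← Perm.mul_apply, (hcomm'.zpow_right i).eq, Perm.mul_apply, hgb]
  refine ⟨?_, fun u hu v hv huu hvv hu1 hv1 => ?_⟩
  · have h2 := Subgroup.card_dvd_of_injective f hf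
    rwa [IsCyclic.card_mulAut, hS, Nat.totient_prime hp] at h2
  · haveI : IsCyclic (ZMod (Nat.card (S : Subgroup H)))ˣ := by rw [hS]; exact ZMod.isCyclic_units_prime hp
    haveI : IsCyclic (fixS H {b}) := isCyclic_of_injective
      ((IsCyclic.mulAutMulEquiv (S : Subgroup H)).toMonoidHom.comp f)
      ((IsCyclic.mulAutMulEquiv (S : Subgroup H)).injective.comp hf)
    by_contra huv
    have h3 := IsCyclic.card_pow_eq_one_le (α := fixS H {b}) (n := 2) (by norm_num)
    have h4 : ({1, ⟨u, hu⟩, ⟨v, hv⟩} : Finset (fixS H {b})) ⊆ Finset.univ.filter fun a => a ^ 2 = 1 := by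
      intro a ha
      simp only [Finset.mem_insert, Finset.mem_singleton] at ha
      refine Finset.mem_filter.2 ⟨Finset.mem_univ _, ?_⟩
      rcases ha with rfl | rfl | rfl
      · exact one_pow 2
      · exact Subtype.ext (by rw [pow_two]; exact huu)
      · exact Subtype.ext (by rw [pow_two]; exact hvv)
    have h5 := (Finset.card_le_card h4).trans h3
    have d1 : (1 : fixS H {b}) ≠ ⟨u, hu⟩ := fun e => hu1 (congrArg Subtype.val e).symm
    have d2 : (1 : fixS H {b}) ≠ ⟨v, hv⟩ := fun e => hv1 (congrArg Subtype.val e).symm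
    have d3 : (⟨u, hu⟩ : fixS H {b}) ≠ ⟨v, hv⟩ := fun e => huv (congrArg Subtype.val e)
    simp [d1, d2, d3] at h5

end CfsgLivWag
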