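import Cfsg.Agent.Lib.LivWag.Pairs
import Cfsg.Agent.Lib.LivWag.Prime

/-!
The exceptional degrees in the homogeneous but not transitive case.
-/

set_option autoImplicit false
set_option linter.unusedSectionVars false

namespace CfsgLivWag

open Equiv

variable {α : Type*} [Fintype α] [DecidableEq α] {G : Subgroup (Perm α)}

theorem fixS_empty (G : Subgroup (Perm α)) : fixS G ∅ = G :=
  Subgroup.ext fun _ => ⟨fun h => h.1, fun h => ⟨h, by simp⟩⟩

theorem card_off (G : Subgroup (Perm α)) (T : Finset α) : Nat.card (off G T) = Nat.card (fixS G T) := by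
  have h := card_fixS_off G T ∅
  rwa [fixS_empty, show liftSet T (∅ : Finset {z : α // z ∉ T}) = ∅ from Finset.map_empty _,
    Finset.union_empty] at h

/-- The order of a stabiliser from the order of the group. -/
theorem KT.card_fixS {k : ℕ} (h : KT G k) (hk : k ≤ Fintype.card α) {N m : ℕ} (hN : Nat.card G = N)
    (hm : (Fintype.card α).descFactorial k * m = N) {s : Finset α} (hs : s.card = k) :
    Nat.card (fixS G s) = m :=
  Nat.eq_of_mul_eq_mul_left (Nat.descFactorial_pos.2 hk) (((h.card_eq hk hs).symm.trans hN).trans hm.symm)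

theorem exists_card_eq {k : ℕ} (hk : k ≤ Fintype.card α) : ∃ s : Finset α, s.card = k := by
  obtain ⟨s, -, hs⟩ := Finset.exists_subset_card_eq (s := (Finset.univ : Finset α)) (n := k) (by rw [Finset.card_univ]; exact hk)
  exact ⟨s, hs⟩

/-- A non-trivial even permutation group inside `L` has half the order. -/
theorem card_inf_alt {L : Subgroup (Perm α)} {w : Perm α} (hw : w ∈ L) (hsw : Perm.sign w = -1) :
    2 * Nat.card (L ⊓ alternatingGroup α : Subgroup (Perm α)) = Nat.card L := by
  set f : L →* ℤˣ := Perm.sign.comp L.subtype with hf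
  have hr : f.range = ⊤ := by
    refine (Subgroup.eq_top_iff' _).2 fun z => ?_
    rcases Int.units_eq_one_or z with rfl | rfl
    · exact one_mem _
    · exact ⟨⟨w, hw⟩, hsw⟩
  have hk : f.ker = (L ⊓ alternatingGroup α).subgroupOf L := by
    ext g
    simp [hf, Subgroup.mem_subgroupOf, Perm.mem_alternatingGroup]
  have h1 := f.ker.card_mul_index
  rw [Subgroup.index_ker, hr, Subgroup.card_top, show Nat.card ℤˣ = 2 by simp, hk,
    Nat.card_congr (Subgroup.subgroupOfEquivOfLe (inf_le_left : L ⊓ alternatingGroup α ≤ L)).toEquiv] at h1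
  omega

theorem mul_self_of_card_two {K : Subgroup (Perm α)} (h : Nat.card K = 2) {g : Perm α} (hg : g ∈ K) :
    g * g = 1 := by
  have h1 : (⟨g, hg⟩ : K) ^ Nat.card K = 1 := pow_card_eq_one'
  rw [h, pow_two] at h1
  exact congrArg Subtype.val h1

theorem three_le {a b c : α} (hab : a ≠ b) (hac : a ≠ c) (hbc : b ≠ c) : ({a, b, c} : Finset α).card = 3 := by
  simp [hab, hac, hbc]

/-- An involution with at least three fixed points, when four fixed points force the identity. -/
theorem three_fixed (hsr : SR G 4) (hodd : Odd (Fintype.card α)) {u : Perm α} (hu : u * u = 1) (hu1 : u ≠ 1)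
    {s : Finset α} (hs : s.card = 3) (hmem : u ∈ fixS G s) :
    (∀ x, u x = x → x ∈ s) ∧ Perm.sign u = (-1) ^ ((Fintype.card α - 3) / 2) := by
  obtain ⟨h2, hsgn⟩ := sign_invol hu
  have hfix := card_fixed_add_support u
  have hsub : s ⊆ Finset.univ.filter fun x => u x = x := fun x hx => Finset.mem_filter.2 ⟨Finset.mem_univ x, hmem.2 x hx⟩
  have hle : (Finset.univ.filter fun x => u x = x).card ≤ 3 := by
    by_contra h
    exact hu1 (hsr.eq_one (s := Finset.univ.filter fun x => u x = x) (by omega)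
      ⟨hmem.1, fun x hx => (Finset.mem_filter.1 hx).2⟩)
  have hge := Finset.card_le_card hsub
  have heq : s = Finset.univ.filter fun x => u x = x := Finset.eq_of_subset_of_card_le hsub (by omega)
  refine ⟨fun x hx => heq ▸ Finset.mem_filter.2 ⟨Finset.mem_univ x, hx⟩, ?_⟩
  rw [hsgn]
  congr 2
  omega

theorem no_eleven (hn : Fintype.card α = 11) (hG : Nat.card G = 330) (h2 : KT G 2) : False := by
  obtain ⟨s, hs⟩ := exists_card_eq (α := α) (k := 1) (by omega)
  obtain ⟨b, rfl⟩ := Finset.card_eq_one.1 hs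
  have hb := (h2.mono (show 1 ≤ 2 by omega)).card_fixS (by omega) hG (m := 30) (by rw [hn]; rfl) hs
  have huniq : ∀ d : ℕ, d ∣ 30 → d % 11 = 1 → d = 1 := fun d hd =>
    (show ∀ d ∈ Nat.divisors 30, d % 11 = 1 → d = 1 by decide) d (Nat.mem_divisors.2 ⟨hd, by norm_num⟩)
  have h := (prime_stab (H := G) (q := 30) (show Nat.Prime 11 by norm_num) hn hG (by norm_num) huniq b).1
  rw [hb] at h
  norm_num at h

theorem no_twelve (hn : Fintype.card α = 12) (h3 : ∀ s : Finset α, s.card = 3 → Nat.card (fixS G s) = 3)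
    (h5 : ∀ s : Finset α, s.card = 5 → Nat.card (setS G s) = 5) : False := by
  haveI : Fact (Nat.Prime 3) := ⟨Nat.prime_three⟩
  obtain ⟨s, hs⟩ := exists_card_eq (α := α) (k := 3) (by omega)
  obtain ⟨⟨x, hx⟩, hox⟩ := exists_prime_orderOf_dvd_card' (G := fixS G s) 3 (by rw [h3 s hs])
  rw [← Subgroup.orderOf_coe] at hox
  simp only at hox
  have hx3 : x * x * x = 1 := by
    have h := pow_orderOf_eq_one x
    rw [hox, pow_succ, pow_two] at h
    exact h
  obtain ⟨y, hy⟩ := exists_moved (g := x) (fun e => by rw [e, orderOf_one] at hox; omega)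
  obtain ⟨f1, f2, f3, h12, -, -, rfl⟩ := Finset.card_eq_three.1 hs
  have hf1 : x f1 = f1 := hx.2 _ (by simp)
  have hf2 : x f2 = f2 := hx.2 _ (by simp)
  have hyyy : x (x (x y)) = y := by rw [← Perm.mul_apply, ← Perm.mul_apply, hx3, Perm.one_apply]
  have n1 : x (x y) ≠ x y := fun e => hy (x.injective e)
  have n2 : x (x y) ≠ y := fun e => hy (by rw [e] at hyyy; exact hyyy)
  have m : ∀ f, x f = f → f ≠ y ∧ f ≠ x y ∧ f ≠ x (x y) := fun f hf =>
    ⟨fun e => hy (e ▸ hf), fun e => n1 (e ▸ hf), fun e => by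
      rw [e, hyyy] at hf
      exact n2 hf.symm⟩
  obtain ⟨a1, a2, a3⟩ := m f1 hf1
  obtain ⟨b1, b2, b3⟩ := m f2 hf2
  have hΔ : ({f1, f2, y, x y, x (x y)} : Finset α).card = 5 := by
    simp [h12, a1, a2, a3, b1, b2, b3, Ne.symm hy, n1.symm, n2.symm]
  have hxΔ : x ∈ setS G {f1, f2, y, x y, x (x y)} := mem_setS_of_maps hx.1 fun z hz => by
    simp only [Finset.mem_insert, Finset.mem_singleton] at hz ⊢
    rcases hz with rfl | rfl | rfl | rfl | rfl
    · exact Or.inl hf1
    · exact Or.inr (Or.inl hf2)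
    · exact Or.inr (Or.inr (Or.inr (Or.inl rfl)))
    · exact Or.inr (Or.inr (Or.inr (Or.inr rfl)))
    · exact Or.inr (Or.inr (Or.inl hyyy))
  have h := Subgroup.orderOf_dvd_natCard _ hxΔ
  rw [hox, h5 _ hΔ] at h
  norm_num at h

theorem no_twentyfour (hn : Fintype.card α = 24) (hG : Nat.card G = 85008) (h2 : KT G 2) : False := by
  obtain ⟨s, hs⟩ := exists_card_eq (α := α) (k := 1) (by omega)
  obtain ⟨a, rfl⟩ := Finset.card_eq_one.1 hs
  have ha := (h2.mono (show 1 ≤ 2 by omega)).card_fixS (by omega) hG (m := 3542) (by rw [hn]; rfl) hs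
  have hnb : Fintype.card {z : α // z ∉ ({a} : Finset α)} = 23 := by rw [card_compl, hn, hs]
  haveI : Nonempty {z : α // z ∉ ({a} : Finset α)} := Fintype.card_pos_iff.1 (by omega)
  obtain ⟨b⟩ := (inferInstance : Nonempty {z : α // z ∉ ({a} : Finset α)})
  have huniq : ∀ d : ℕ, d ∣ 154 → d % 23 = 1 → d = 1 := fun d hd =>
    (show ∀ d ∈ Nat.divisors 154, d % 23 = 1 → d = 1 by decide) d (Nat.mem_divisors.2 ⟨hd, by norm_num⟩)
  have h := (prime_stab (H := off G {a}) (q := 154) (show Nat.Prime 23 by norm_num) hnb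
    (by rw [card_off, ha]) (by norm_num) huniq b).1
  rw [card_fixS_off, h2.card_fixS (by omega) hG (m := 154) (by rw [hn]; rfl)
    (by rw [card_union_lift, hs, Finset.card_singleton])] at h
  norm_num at h

theorem no_nineteen (hn : Fintype.card α = 19) (hG : Nat.card G = 23256) (h3 : KT G 3) (hsr : SR G 4)
    (h5 : ∀ s : Finset α, s.card = 5 → Nat.card (setS G s) = 2) : False := by
  obtain ⟨F, hF⟩ := exists_card_eq (α := α) (k := 3) (by omega)
  obtain ⟨a, b, c, hab, hac, hbc, hFe⟩ := Finset.card_eq_three.1 hF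
  have hFfix : Nat.card (fixS G F) = 4 := h3.card_fixS (by omega) hG (by rw [hn]; rfl) hF
  have hT : ({a, b} : Finset α).card = 2 := by simp [hab]
  have hTfix : Nat.card (fixS G {a, b}) = 68 :=
    (h3.mono (show 2 ≤ 3 by omega)).card_fixS (by omega) hG (by rw [hn]; rfl) hT
  have hcT : c ∉ ({a, b} : Finset α) := by simp [hac.symm, hbc.symm]
  have hnb : Fintype.card {z : α // z ∉ ({a, b} : Finset α)} = 17 := by rw [card_compl, hn, hT]
  have huniq : ∀ d : ℕ, d ∣ 4 → d % 17 = 1 → d = 1 := fun d hd =>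
    (show ∀ d ∈ Nat.divisors 4, d % 17 = 1 → d = 1 by decide) d (Nat.mem_divisors.2 ⟨hd, by norm_num⟩)
  have hu := (prime_stab (H := off G {a, b}) (q := 4) (show Nat.Prime 17 by norm_num) hnb
    (by rw [card_off, hTfix]) (by norm_num) huniq ⟨c, hcT⟩).2
  -- one involution fixes `F`
  have huni : ∀ u ∈ fixS G F, ∀ v ∈ fixS G F, u * u = 1 → v * v = 1 → u ≠ 1 → v ≠ 1 → u = v := by
    intro u hu' v hv' huu hvv hu1 hv1
    have hT' : ∀ w ∈ fixS G F, ∀ z ∈ ({a, b} : Finset α), w z = z := fun w hw z hz => hw.2 z (by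
      rw [hFe]; simp only [Finset.mem_insert, Finset.mem_singleton] at hz ⊢; tauto)
    let r : ∀ w : Perm α, w ∈ fixS G F → Perm {z : α // z ∉ ({a, b} : Finset α)} :=
      fun w hw => w.subtypePerm fun z => not_mem_of_fix (hT' w hw)
    have hr : ∀ w hw, r w hw ∈ fixS (off G {a, b}) {⟨c, hcT⟩} := fun w hw =>
      ⟨⟨w, ⟨hw.1, hT' w hw⟩, fun _ => rfl⟩, fun z hz => by
        rw [Finset.mem_singleton.1 hz]
        exact Subtype.ext (hw.2 c (by simp [hFe]))⟩
    have hext : ∀ w hw w' hw', r w hw = r w' hw' → w = w' := fun w hw w' hw' e => Equiv.ext fun z => by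
      by_cases hz : z ∈ ({a, b} : Finset α)
      · rw [hT' w hw z hz, hT' w' hw' z hz]
      · exact congrArg Subtype.val (Equiv.congr_fun e ⟨z, hz⟩)
    refine hext u hu' v hv' (hu _ (hr u hu') _ (hr v hv') ?_ ?_ ?_ ?_)
    · exact Equiv.ext fun z => Subtype.ext (Equiv.congr_fun huu z)
    · exact Equiv.ext fun z => Subtype.ext (Equiv.congr_fun hvv z)
    · exact fun e => hu1 (hext u hu' 1 (one_mem _) (e.trans (Equiv.ext fun z => Subtype.ext rfl)))
    · exact fun e => hv1 (hext v hv' 1 (one_mem _) (e.trans (Equiv.ext fun z => Subtype.ext rfl)))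
  obtain ⟨u, huF, hu1, huu⟩ := exists_involution (K := fixS G F) (by rw [hFfix]; norm_num)
  obtain ⟨hfix, -⟩ := three_fixed hsr (by rw [hn]; decide) huu hu1 hF huF
  have hK : Nat.card (setS G F) = 24 := by
    have h := (h3.homog le_rfl).card_eq hF
    rw [hG, hn, show Nat.choose 19 3 = 969 by decide] at h
    omega
  have hcen : ∀ g ∈ setS G F, g * u = u * g := fun g hg => by
    have hmem : g * u * g⁻¹ ∈ fixS G F := by
      refine ⟨G.mul_mem (G.mul_mem hg.1 huF.1) (G.inv_mem hg.1), fun x hx => ?_⟩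
      have hx' : g⁻¹ x ∈ F := by rw [← hg.2, app_inv]; exact hx
      rw [Perm.mul_apply, Perm.mul_apply, huF.2 _ hx', app_inv]
    have h := huni _ hmem u huF (by rw [show g * u * g⁻¹ * (g * u * g⁻¹) = g * (u * u) * g⁻¹ by group, huu, mul_one,
      mul_inv_cancel]) huu (fun e => hu1 (by rw [conj_eq_one_iff] at e; exact e)) hu1
    exact mul_inv_eq_iff_eq_mul.1 h
  obtain ⟨x, hx⟩ := exists_moved hu1
  have hxF : x ∉ F := fun h => hx (huF.2 x h)
  have huxF : u x ∉ F := fun h => hx (u.injective (huF.2 _ h))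
  have hfree : ∀ g ∈ setS G F, g x = x → g = 1 := by
    intro g hg hgx
    have hgux : g (u x) = u x := by rw [← Perm.mul_apply, hcen g hg, Perm.mul_apply, hgx]
    set Δ := insert x (insert (u x) F) with hΔdef
    have hΔ : Δ.card = 5 := by
      rw [hΔdef, Finset.card_insert_of_notMem (by simp [Ne.symm hx, hxF]), Finset.card_insert_of_notMem huxF, hF]
    have hgΔ : g ∈ setS G Δ := mem_setS_of_maps hg.1 fun z hz => by
      simp only [hΔdef, Finset.mem_insert] at hz ⊢
      rcases hz with rfl | rfl | hz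
      · exact Or.inl hgx
      · exact Or.inr (Or.inl hgux)
      · exact Or.inr (Or.inr ((hg.2 z).2 hz))
    have huΔ : u ∈ setS G Δ := mem_setS_of_maps huF.1 fun z hz => by
      simp only [hΔdef, Finset.mem_insert] at hz ⊢
      rcases hz with rfl | rfl | hz
      · exact Or.inr (Or.inl rfl)
      · exact Or.inl (by rw [← Perm.mul_apply, huu, Perm.one_apply])
      · exact Or.inr (Or.inr ((huF.2 z hz).symm ▸ hz))
    by_contra hg1
    have hgu : g ≠ u := fun e => hx (e ▸ hgx)
    have h := Finset.card_le_card (show ({1, u, g} : Finset (Perm α)) ⊆ elts (setS G Δ) from fun z hz => by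
      simp only [Finset.mem_insert, Finset.mem_singleton] at hz
      rcases hz with rfl | rfl | rfl
      · exact mem_elts.2 (one_mem _)
      · exact mem_elts.2 huΔ
      · exact mem_elts.2 hgΔ)
    rw [card_elts, h5 Δ hΔ] at h
    simp [Ne.symm hu1, Ne.symm hg1, Ne.symm hgu] at h
  have hinj : Function.Injective fun g : setS G F => (⟨(g : Perm α) x, fun h => hxF ((g.2.2 x).1 h)⟩ :
      {z : α // z ∉ F}) := fun g g' e => by
    have h := hfree _ (Subgroup.mul_mem _ (Subgroup.inv_mem _ g'.2) g.2)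
      (by rw [Perm.mul_apply, show (g : Perm α) x = (g' : Perm α) x from congrArg Subtype.val e, inv_app])
    exact (Subtype.ext (inv_mul_eq_one.1 h)).symm
  have h := Nat.card_le_card_of_injective _ hinj
  rw [hK, Nat.card_eq_fintype_card, card_compl, hn, hF] at h
  omega

theorem no_seven (hn : Fintype.card α = 7) (hG : Nat.card G = 210) (h3 : KT G 3) (hsr : SR G 3) : False := by
  haveI : Fact (Nat.Prime 3) := ⟨Nat.prime_three⟩
  obtain ⟨s, hs⟩ := exists_card_eq (α := α) (k := 1) (by omega)
  obtain ⟨a, rfl⟩ := Finset.card_eq_one.1 hs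
  have ha := (h3.mono (show 1 ≤ 3 by omega)).card_fixS (by omega) hG (m := 30) (by rw [hn]; rfl) hs
  have hb : ∀ b, b ≠ a → Nat.card (fixS G {a, b}) = 5 := fun b hb =>
    (h3.mono (show 2 ≤ 3 by omega)).card_fixS (by omega) hG (by rw [hn]; rfl) (by simp [hb.symm])
  set U : Finset (Perm α) := (Finset.univ.erase a).biUnion fun b => (elts (fixS G {a, b})).erase 1 with hU
  have hUc : U.card = 24 := by
    rw [hU, Finset.card_biUnion]
    · rw [Finset.sum_congr rfl fun b hb' => show _ = 4 by
        rw [Finset.card_erase_of_mem (mem_elts.2 (one_mem _)), card_elts, hb b (Finset.ne_of_mem_erase hb')]]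
      simp [Finset.card_erase_of_mem, hn]
    · intro b hb' d hd hbd
      refine Finset.disjoint_left.2 fun g hg hg' => ?_
      obtain ⟨g1, g2⟩ := Finset.mem_erase.1 hg
      obtain ⟨-, g3⟩ := Finset.mem_erase.1 hg'
      refine g1 (hsr.eq_one (s := {a, b, d}) (three_le (Finset.ne_of_mem_erase hb').symm
        (Finset.ne_of_mem_erase hd).symm hbd).ge ⟨(mem_elts.1 g2).1, fun z hz => ?_⟩)
      simp only [Finset.mem_insert, Finset.mem_singleton] at hz
      rcases hz with rfl | rfl | rfl
      · exact (mem_elts.1 g2).2 _ (by simp)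
      · exact (mem_elts.1 g2).2 _ (by simp)
      · exact (mem_elts.1 g3).2 _ (by simp)
  have hUsub : ∀ g ∈ U, g ∈ fixS G {a} ∧ g ≠ 1 ∧ orderOf g = 5 := fun g hg => by
    obtain ⟨b, hb', hg⟩ := Finset.mem_biUnion.1 hg
    obtain ⟨g1, g2⟩ := Finset.mem_erase.1 hg
    refine ⟨⟨(mem_elts.1 g2).1, fun z hz => (mem_elts.1 g2).2 z (by simp [Finset.mem_singleton.1 hz])⟩, g1, ?_⟩
    have h := Subgroup.orderOf_dvd_natCard _ (mem_elts.1 g2)
    rw [hb b (Finset.ne_of_mem_erase hb')] at h
    exact ((Nat.dvd_prime (by norm_num)).1 h).resolve_left fun e => g1 (orderOf_eq_one_iff.1 e)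
  obtain ⟨b, hba⟩ : ∃ b, b ≠ a := by
    obtain ⟨b, hb'⟩ := Finset.card_pos.1 (show 0 < (Finset.univ.erase a).card by simp [hn])
    exact ⟨b, Finset.ne_of_mem_erase hb'⟩
  have hex : ∀ c : α, ∃ g : Perm α, c ∈ (Finset.univ.erase a).erase b →
      g ∈ fixS G {a} ∧ g b = c ∧ orderOf g = 2 := by
    intro c
    by_cases hc : c ∈ (Finset.univ.erase a).erase b
    swap
    · exact ⟨1, fun h => absurd h hc⟩
    simp only [Finset.mem_erase, Finset.mem_univ, and_true] at hc
    obtain ⟨g, hg, hgx⟩ := h3 (Equiv.swap b c) {a, b, c} (three_le hba.symm (Ne.symm hc.2) (Ne.symm hc.1)).le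
    have e1 : g a = a := by rw [hgx a (by simp), Equiv.swap_apply_of_ne_of_ne hba.symm (Ne.symm hc.2)]
    have e2 : g b = c := by rw [hgx b (by simp), Equiv.swap_apply_left]
    have e3 : g c = b := by rw [hgx c (by simp), Equiv.swap_apply_right]
    refine ⟨g, fun _ => ⟨⟨hg, fun z hz => by rw [Finset.mem_singleton.1 hz, e1]⟩, e2,
      orderOf_eq_prime ?_ fun e => hc.1 (by rw [← e2, e, Perm.one_apply])⟩⟩
    rw [pow_two]
    refine hsr.eq_one (three_le hba.symm (Ne.symm hc.2) (Ne.symm hc.1)).ge ⟨G.mul_mem hg hg, fun z hz => ?_⟩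
    simp only [Finset.mem_insert, Finset.mem_singleton] at hz
    rw [Perm.mul_apply]
    rcases hz with rfl | rfl | rfl
    · rw [e1, e1]
    · rw [e2, e3]
    · rw [e3, e2]
  choose g hg using hex
  set I := ((Finset.univ.erase a).erase b).image g with hI
  have hIc : I.card = 5 := by
    rw [hI, Finset.card_image_of_injOn fun c hc c' hc' e => ?_, Finset.card_erase_of_mem
      (Finset.mem_erase.2 ⟨hba, Finset.mem_univ b⟩), Finset.card_erase_of_mem (Finset.mem_univ a), Finset.card_univ,
      hn]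
    rw [← (hg c hc).2.1, e, (hg c' hc').2.1]
  have hIsub : ∀ w ∈ I, w ∈ fixS G {a} ∧ orderOf w = 2 := fun w hw => by
    obtain ⟨c, hc, rfl⟩ := Finset.mem_image.1 hw
    exact ⟨(hg c hc).1, (hg c hc).2.2⟩
  obtain ⟨⟨x, hx⟩, hox⟩ := exists_prime_orderOf_dvd_card' (G := fixS G {a}) 3 (by rw [ha]; norm_num)
  rw [← Subgroup.orderOf_coe] at hox
  simp only at hox
  have hd1 : Disjoint U I := Finset.disjoint_left.2 fun w h1 h2 => by
    have := (hUsub w h1).2.2; have := (hIsub w h2).2; omega
  have hd2 : Disjoint (U ∪ I) {1, x} := Finset.disjoint_left.2 fun w h1 h2 => by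
    simp only [Finset.mem_insert, Finset.mem_singleton] at h2
    rcases Finset.mem_union.1 h1 with h1 | h1 <;> rcases h2 with rfl | rfl
    · exact (hUsub _ h1).2.1 rfl
    · have := (hUsub _ h1).2.2; omega
    · have := (hIsub _ h1).2; rw [orderOf_one] at this; omega
    · have := (hIsub _ h1).2; omega
  have hx1 : (1 : Perm α) ≠ x := fun e => by rw [← e, orderOf_one] at hox; omega
  have h := Finset.card_le_card (show U ∪ I ∪ {1, x} ⊆ elts (fixS G {a}) from fun w hw => by
    rcases Finset.mem_union.1 hw with hw | hw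
    · rcases Finset.mem_union.1 hw with hw | hw
      · exact mem_elts.2 (hUsub w hw).1
      · exact mem_elts.2 (hIsub w hw).1
    · simp only [Finset.mem_insert, Finset.mem_singleton] at hw
      rcases hw with rfl | rfl
      · exact mem_elts.2 (one_mem _)
      · exact mem_elts.2 hx)
  rw [card_elts, ha, Finset.card_union_of_disjoint hd2, Finset.card_union_of_disjoint hd1, hUc, hIc,
    Finset.card_pair hx1] at h
  omega

theorem no_nine (hn : Fintype.card α = 9) (hG : Nat.card G = 1008) (h3 : KT G 3) (hsr : SR G 4) : False := by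
  classical
  haveI : Fact (Nat.Prime 2) := ⟨Nat.prime_two⟩
  obtain ⟨F, hF⟩ := exists_card_eq (α := α) (k := 3) (by omega)
  obtain ⟨a, b, c, hab, hac, hbc, hFe⟩ := Finset.card_eq_three.1 hF
  have htriple : ∀ s : Finset α, s.card = 3 → Nat.card (fixS G s) = 2 := fun s hs =>
    h3.card_fixS (by omega) hG (by rw [hn]; rfl) hs
  have hodd : ∀ s : Finset α, s.card = 3 → ∀ g ∈ fixS G s, g ≠ 1 → Perm.sign g = -1 := fun s hs g hg hg1 => by
    rw [(three_fixed hsr (by rw [hn]; decide) (mul_self_of_card_two (htriple s hs) hg) hg1 hs hg).2, hn]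
    decide
  have hpair : ∀ d, d ≠ a → Nat.card (fixS G {a, d} ⊓ alternatingGroup α : Subgroup (Perm α)) = 7 := by
    intro d hd
    obtain ⟨e, he⟩ := Finset.card_pos.1 (show 0 < ((Finset.univ.erase a).erase d).card by
      simp [hn, hd])
    simp only [Finset.mem_erase, Finset.mem_univ, and_true] at he
    have hs : ({a, d, e} : Finset α).card = 3 := three_le hd.symm (Ne.symm he.2) (Ne.symm he.1)
    obtain ⟨w, hw, hw1, -⟩ := exists_involution (K := fixS G {a, d, e}) (by rw [htriple _ hs])
    have h := card_inf_alt (L := fixS G {a, d}) (fixS_anti (by intro z hz; simp at hz ⊢; tauto) hw)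
      (hodd _ hs w hw hw1)
    rw [(h3.mono (show 2 ≤ 3 by omega)).card_fixS (by omega) hG (m := 14) (by rw [hn]; rfl)
      (by simp [hd.symm] : ({a, d} : Finset α).card = 2)] at h
    omega
  obtain ⟨u, huF, hu1, huu⟩ := exists_involution (K := fixS G F) (by rw [htriple F hF])
  set K := fixS G {a} ⊓ alternatingGroup α with hKdef
  have hKc : Nat.card K = 56 := by
    have h := card_inf_alt (L := fixS G {a}) (fixS_anti (by simp [hFe]) huF) (hodd F hF u huF hu1)
    rw [(h3.mono (show 1 ≤ 3 by omega)).card_fixS (by omega) hG (m := 112) (by rw [hn]; rfl)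
      (Finset.card_singleton a)] at h
    change 2 * Nat.card K = 112 at h
    omega
  set U : Finset (Perm α) := (Finset.univ.erase a).biUnion
    fun d => (elts (fixS G {a, d} ⊓ alternatingGroup α)).erase 1 with hU
  have hUmem : ∀ g, g ∈ U ↔ ∃ d, d ≠ a ∧ g ≠ 1 ∧ g ∈ fixS G {a, d} ∧ g ∈ alternatingGroup α := fun g => by
    simp [hU, mem_elts, Subgroup.mem_inf, and_assoc]
  have hUc : U.card = 48 := by
    rw [hU, Finset.card_biUnion]
    · rw [Finset.sum_congr rfl fun d hd => show _ = 6 by
        rw [Finset.card_erase_of_mem (mem_elts.2 (one_mem _)), card_elts, hpair d (Finset.ne_of_mem_erase hd)]]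
      simp [Finset.card_erase_of_mem, hn]
    · intro d hd e he hde
      refine Finset.disjoint_left.2 fun g hg hg' => ?_
      obtain ⟨g1, g2⟩ := Finset.mem_erase.1 hg
      obtain ⟨-, g3⟩ := Finset.mem_erase.1 hg'
      rw [mem_elts, Subgroup.mem_inf] at g2 g3
      have hmem : g ∈ fixS G {a, d, e} := ⟨g2.1.1, fun z hz => by
        simp only [Finset.mem_insert, Finset.mem_singleton] at hz
        rcases hz with rfl | rfl | rfl
        · exact g2.1.2 _ (by simp)
        · exact g2.1.2 _ (by simp)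
        · exact g3.1.2 _ (by simp)⟩
      have h := hodd _ (three_le (Finset.ne_of_mem_erase hd).symm (Finset.ne_of_mem_erase he).symm hde) g hmem g1
      rw [Perm.mem_alternatingGroup.1 g2.2] at h
      exact absurd h (by decide)
  obtain ⟨S⟩ : Nonempty (Sylow 2 K) := Sylow.nonempty
  set E := (S : Subgroup K).map K.subtype with hE
  have hEc : Nat.card E = 8 := by
    rw [hE, Subgroup.card_map_of_injective K.subtype_injective, S.card_eq_multiplicity, hKc,
      show (56 : ℕ) = 2 ^ 3 * 7 by norm_num, Nat.factorization_mul (by norm_num) (by norm_num), Finsupp.add_apply,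
      Nat.prime_two.factorization_pow, Finsupp.single_eq_same, Nat.factorization_eq_zero_of_not_dvd (by norm_num)]
    norm_num
  have hEK : E ≤ K := Subgroup.map_subtype_le _
  have hEU : ∀ g ∈ E, g ∉ U := fun g hg hgU => by
    obtain ⟨d, hd, hg1, hg2, hg3⟩ := (hUmem g).1 hgU
    have h1 := Subgroup.orderOf_dvd_natCard _ hg
    have h2 := Subgroup.orderOf_dvd_natCard _ (show g ∈ fixS G {a, d} ⊓ alternatingGroup α from ⟨hg2, hg3⟩)
    rw [hEc] at h1
    rw [hpair d hd] at h2
    exact hg1 (orderOf_eq_one_iff.1 (Nat.dvd_one.1 (Nat.dvd_gcd h1 h2)))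
  have hX : elts E = elts K \ U := Finset.eq_of_subset_of_card_le
    (fun g hg => Finset.mem_sdiff.2 ⟨mem_elts.2 (hEK (mem_elts.1 hg)), hEU g (mem_elts.1 hg)⟩) (by
      rw [Finset.card_sdiff_of_subset fun g hg => by
        obtain ⟨d, -, -, hg2, hg3⟩ := (hUmem g).1 hg
        exact mem_elts.2 ⟨fixS_anti (by simp) hg2, hg3⟩, card_elts, card_elts, hKc, hEc, hUc])
  have hnorm : ∀ g ∈ fixS G {a}, ∀ e ∈ E, g * e * g⁻¹ ∈ E := by
    intro g hg e he
    have hga : g a = a := hg.2 a (Finset.mem_singleton_self a)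
    rw [← mem_elts, hX, Finset.mem_sdiff, mem_elts]
    refine ⟨⟨Subgroup.mul_mem _ (Subgroup.mul_mem _ hg (hEK he).1) (Subgroup.inv_mem _ hg), ?_⟩, fun hU' => ?_⟩
    · show g * e * g⁻¹ ∈ alternatingGroup α
      rw [Perm.mem_alternatingGroup, map_mul, map_mul, map_inv, Perm.mem_alternatingGroup.1 (hEK he).2, mul_one,
        mul_inv_cancel]
    · obtain ⟨d, hd, hg1, hg2, -⟩ := (hUmem _).1 hU'
      refine hEU e he ((hUmem e).2 ⟨g⁻¹ d, fun h => hd ?_, fun h => hg1 (by rw [h]; simp),
        ⟨(hEK he).1.1, fun z hz => ?_⟩, (hEK he).2⟩)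
      · rw [← app_inv g d, h, hga]
      · simp only [Finset.mem_insert, Finset.mem_singleton] at hz
        rcases hz with rfl | rfl
        · exact (hEK he).1.2 _ (Finset.mem_singleton_self _)
        · have h := hg2.2 d (by simp)
          rw [Perm.mul_apply, Perm.mul_apply] at h
          conv_rhs at h => rw [← app_inv g d]
          exact g.injective h
  have hcent : ∀ e ∈ E, ∀ y ∈ fixS G {a, b} ⊓ alternatingGroup α, y ≠ 1 → e * y = y * e → e = 1 := by
    intro e he y hy hy1 hey
    have hyb : y (e b) = e b := by rw [← Perm.mul_apply, ← hey, Perm.mul_apply, hy.1.2 b (by simp)]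
    have hea : e b ≠ a := fun h => hab.symm (e.injective (h.trans ((hEK he).1.2 a (by simp)).symm))
    have heb : e b = b := by
      by_contra hne
      have h := hodd _ (three_le hab (Ne.symm hea) (Ne.symm hne)) y ⟨hy.1.1, fun z hz => by
        simp only [Finset.mem_insert, Finset.mem_singleton] at hz
        rcases hz with rfl | rfl | rfl
        · exact hy.1.2 _ (by simp)
        · exact hy.1.2 _ (by simp)
        · exact hyb⟩ hy1
      rw [Perm.mem_alternatingGroup.1 hy.2] at h
      exact absurd h (by decide)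
    by_contra he1
    refine hEU e he ((hUmem e).2 ⟨b, hab.symm, he1, ⟨(hEK he).1.1, fun z hz => ?_⟩, (hEK he).2⟩)
    simp only [Finset.mem_insert, Finset.mem_singleton] at hz
    rcases hz with rfl | rfl
    · exact (hEK he).1.2 _ (Finset.mem_singleton_self _)
    · exact heb
  haveI : Fact (Nat.Prime 7) := ⟨by norm_num⟩
  obtain ⟨⟨y, hy⟩, hoy⟩ := exists_prime_orderOf_dvd_card'
    (G := (fixS G {a, b} ⊓ alternatingGroup α : Subgroup (Perm α))) 7 (by rw [hpair b hab.symm])
  rw [← Subgroup.orderOf_coe] at hoy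
  simp only at hoy
  obtain ⟨e0, he0, he01, he02⟩ := exists_involution (K := E) (by rw [hEc]; norm_num)
  have hya : ∀ i : ℕ, y ^ i ∈ fixS G {a} := fun i => Subgroup.pow_mem _ (fixS_anti (by simp) hy.1) i
  have himg : (Finset.range 7).image (fun i => y ^ i * e0 * (y ^ i)⁻¹) = (elts E).erase 1 := by
    refine Finset.eq_of_subset_of_card_le (fun w hw => ?_) ?_
    · obtain ⟨i, -, rfl⟩ := Finset.mem_image.1 hw
      exact Finset.mem_erase.2 ⟨fun h => he01 (conj_eq_one_iff.1 h), mem_elts.2 (hnorm _ (hya i) _ he0)⟩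
    · rw [Finset.card_erase_of_mem (mem_elts.2 (one_mem _)), card_elts, hEc, Finset.card_image_of_injOn,
        Finset.card_range]
      intro i hi j hj hij
      simp only at hij
      by_contra hne
      wlog hlt : i < j generalizing i j
      · exact this hj hi hij.symm (Ne.symm hne) (by omega)
      have hyij : y ^ j = y ^ i * y ^ (j - i) := by rw [← pow_add]; congr 1; omega
      rw [hyij, mul_inv_rev] at hij
      have hcomm : e0 * y ^ (j - i) = y ^ (j - i) * e0 := by
        have h : e0 = y ^ (j - i) * e0 * (y ^ (j - i))⁻¹ := by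
          apply mul_left_cancel (a := y ^ i)
          apply mul_right_cancel (b := (y ^ i)⁻¹)
          rw [hij]; group
        exact eq_mul_inv_iff_mul_eq.1 h
      refine he01 (hcent e0 he0 _ (Subgroup.pow_mem _ hy _) (fun h => ?_) hcomm)
      have := Nat.le_of_dvd (by omega) (orderOf_dvd_of_pow_eq_one h)
      rw [hoy] at this
      have := Finset.mem_range.1 hj
      omega
  have hexp : ∀ e ∈ E, e * e = 1 := fun e he => by
    rcases eq_or_ne e 1 with rfl | h1
    · exact one_mul 1
    obtain ⟨i, -, rfl⟩ := Finset.mem_image.1 (himg.symm ▸ Finset.mem_erase.2 ⟨h1, mem_elts.2 he⟩ :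
      e ∈ (Finset.range 7).image fun i => y ^ i * e0 * (y ^ i)⁻¹)
    rw [show y ^ i * e0 * (y ^ i)⁻¹ * (y ^ i * e0 * (y ^ i)⁻¹) = y ^ i * (e0 * e0) * (y ^ i)⁻¹ by group, he02, mul_one,
      mul_inv_cancel]
  have hinv : ∀ e ∈ E, e⁻¹ = e := fun e he => inv_eq_of_mul_eq_one_left (hexp e he)
  have hcomm : ∀ e ∈ E, ∀ f ∈ E, e * f = f * e := fun e he f hf => by
    rw [← hinv _ (E.mul_mem he hf), mul_inv_rev, hinv e he, hinv f hf]
  have huE : ∀ e ∈ E, u * e * u ∈ E := fun e he => by
    have h := hnorm u (fixS_anti (by simp [hFe]) huF) e he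
    rwa [inv_eq_of_mul_eq_one_left huu] at h
  set C := (elts E).filter fun e => u * e * u = e with hC
  have hfixu := (three_fixed hsr (by rw [hn]; decide) huu hu1 hF huF).1
  have hCb : ∀ e ∈ C, e b = b → e = 1 := fun e he heb => by
    by_contra he1
    have heE := mem_elts.1 (Finset.mem_filter.1 he).1
    refine hEU e heE ((hUmem e).2 ⟨b, hab.symm, he1, ⟨(hEK heE).1.1, fun z hz => ?_⟩, (hEK heE).2⟩)
    simp only [Finset.mem_insert, Finset.mem_singleton] at hz
    rcases hz with rfl | rfl
    · exact (hEK heE).1.2 _ (Finset.mem_singleton_self _)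
    · exact heb
  have hCmap : Set.MapsTo (fun e : Perm α => e b) C ({b, c} : Finset α) := fun e he => by
    have heE := mem_elts.1 (Finset.mem_filter.1 he).1
    have hub : u (e b) = e b := by
      conv_lhs => rw [← huF.2 b (by simp [hFe]), ← Perm.mul_apply, ← Perm.mul_apply, (Finset.mem_filter.1 he).2]
    have h := hfixu _ hub
    simp only [hFe, Finset.mem_insert, Finset.mem_singleton] at h
    rcases h with h | h
    · exact absurd (e.injective (h.trans ((hEK heE).1.2 a (by simp)).symm)) hab.symm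
    · simpa using h
  have hCc : C.card ≤ 2 := (Finset.card_le_card_of_injOn (fun e : Perm α => e b) hCmap fun e he f hf hef => by
    have heE := mem_elts.1 (Finset.mem_filter.1 he).1
    have hfE := mem_elts.1 (Finset.mem_filter.1 hf).1
    have hmem : e * f ∈ C := Finset.mem_filter.2 ⟨mem_elts.2 (E.mul_mem heE hfE), by
      conv_rhs => rw [← (Finset.mem_filter.1 he).2, ← (Finset.mem_filter.1 hf).2]
      simp only [mul_assoc]
      rw [← mul_assoc u u, huu, one_mul]⟩
    have hef' : e b = f b := hef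
    have h := hCb _ hmem (by rw [hcomm e heE f hfE, Perm.mul_apply, hef', ← Perm.mul_apply, hexp f hfE,
      Perm.one_apply])
    rw [← hinv f hfE, mul_inv_eq_one] at h
    exact h).trans Finset.card_le_two
  have hfib : ∀ w ∈ (elts E).image fun e => e * (u * e * u),
      ((elts E).filter fun e => e * (u * e * u) = w).card ≤ 2 := by
    intro w hw
    obtain ⟨e, he, rfl⟩ := Finset.mem_image.1 hw
    rw [mem_elts] at he
    refine le_trans (Finset.card_le_card_of_injOn (fun f => e * f) (fun f hf => ?_) fun f _ f' _ h =>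
      mul_left_cancel h) hCc
    rw [Finset.mem_coe, Finset.mem_filter, mem_elts] at hf
    refine Finset.mem_filter.2 ⟨mem_elts.2 (E.mul_mem he hf.1), ?_⟩
    have h1 : u * (e * f) * u = (u * e * u) * (u * f * u) := by
      simp only [mul_assoc]
      rw [← mul_assoc u u, huu, one_mul]
    have h2 : (e * f) * ((u * e * u) * (u * f * u)) = 1 := by
      calc (e * f) * ((u * e * u) * (u * f * u)) = e * (f * (u * e * u)) * (u * f * u) := by simp only [mul_assoc]
        _ = e * ((u * e * u) * f) * (u * f * u) := by rw [hcomm f hf.1 _ (huE e he)]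
        _ = e * (u * e * u) * (f * (u * f * u)) := by simp only [mul_assoc]
        _ = 1 := by rw [hf.2, hexp _ (E.mul_mem he (huE e he))]
    rw [← h1] at h2
    exact (eq_inv_of_mul_eq_one_right h2).trans (hinv _ (E.mul_mem he hf.1))
  have h := Finset.card_le_mul_card_image (elts E) 2 hfib
  have hsub : ((elts E).image fun e => e * (u * e * u)) ⊆ C := fun w hw => by
    obtain ⟨e, he, rfl⟩ := Finset.mem_image.1 hw
    rw [mem_elts] at he
    refine Finset.mem_filter.2 ⟨mem_elts.2 (E.mul_mem he (huE e he)), ?_⟩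
    rw [hcomm e he _ (huE e he)]
    calc u * (u * e * u * e) * u = (u * u) * (e * (u * e * u)) := by simp only [mul_assoc]
      _ = u * e * u * e := by rw [huu, one_mul, hcomm e he _ (huE e he)]
  have := Finset.card_le_card hsub
  rw [card_elts, hEc] at h
  omega

end CfsgLivWag
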