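import Cfsg.Agent.Lib.LivWag.AltSet
import Cfsg.Agent.Lib.LivWag.Small
import Cfsg.Agent.S0744
import Cfsg.Agent.S0736

/-!
Homogeneous groups that fail to be multiply transitive (Livingstone–Wagner).
-/

set_option autoImplicit false
set_option linter.unusedSectionVars false

namespace CfsgLivWag

open Equiv

variable {α : Type*} [Fintype α] [DecidableEq α] {G : Subgroup (Perm α)}

/-- No pair of a `j`-set is exchanged with the other points of the set fixed. -/
def NoSwap (G : Subgroup (Perm α)) (j : ℕ) : Prop :=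
  ∀ s : Finset α, s.card = j → ∀ x ∈ s, ∀ y ∈ s, x ≠ y → ¬ HasSwap G s x y

theorem card_fixS_eq (G : Subgroup (Perm α)) (s : Finset α) :
    Nat.card (fixingSubgroup G (s : Set α)) = Nat.card (fixS G s) := by
  refine Nat.card_congr
    { toFun := fun g => ⟨(g : G), (g : G).2, fun x hx => (mem_fixingSubgroup_iff G).1 g.2 x hx⟩
      invFun := fun g => ⟨⟨g, g.2.1⟩, (mem_fixingSubgroup_iff G).2 fun x hx => g.2.2 x hx⟩
      left_inv := fun g => rfl
      right_inv := fun g => rfl }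

theorem KT.card_fixS_step {k : ℕ} (h : KT G (k + 1)) (hk : k + 1 ≤ Fintype.card α) {s t : Finset α}
    (hs : s.card = k) (ht : t.card = k + 1) :
    Nat.card (fixS G s) = (Fintype.card α - k) * Nat.card (fixS G t) := by
  have h1 := (h.mono (Nat.le_succ k)).card_eq (by omega) hs
  rw [h.card_eq hk ht, Nat.descFactorial_succ, mul_comm _ (Nat.descFactorial _ _), mul_assoc] at h1
  exact (Nat.eq_of_mul_eq_mul_left (Nat.descFactorial_pos.2 (by omega)) h1).symm

theorem sign_swap_mem {s : Finset α} {x y : α} (hx : x ∈ s) (hy : y ∈ s) (hxy : x ≠ y) :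
    Perm.sign (Equiv.swap (⟨x, hx⟩ : ↥s) ⟨y, hy⟩) = -1 :=
  Perm.sign_swap fun h => hxy (congrArg Subtype.val h)

theorem two_dvd_card_ind {s : Finset α} {x y : α} (hx : x ∈ s) (hy : y ∈ s) (hxy : x ≠ y) (h : HasSwap G s x y) :
    2 ∣ Nat.card (Ind G s) := by
  have h1 := Subgroup.orderOf_dvd_natCard _ (swap_mem_ind hx hy h)
  rwa [orderOf_eq_prime (p := 2) (by rw [pow_two, Equiv.swap_mul_self])] at h1
  intro e
  have h2 := sign_swap_mem hx hy hxy
  rw [e, map_one] at h2
  exact absurd h2 (by decide)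

/-- An involution gives a transposition on two moved points and any points it fixes. -/
theorem swap_of_involution {A : Finset α} {u : Perm α} (hu : u ∈ fixS G A) (huu : u * u = 1) (hu1 : u ≠ 1) :
    ∃ x y, x ∉ A ∧ y ∉ A ∧ x ≠ y ∧ HasSwap G (insert x (insert y A)) x y := by
  obtain ⟨x, hx⟩ := exists_moved hu1
  refine ⟨x, u x, fun h => hx (hu.2 x h), fun h => hx (u.injective (hu.2 _ h)), Ne.symm hx, u, hu.1, rfl,
    by rw [← Perm.mul_apply, huu, Perm.one_apply], fun z hz h1 h2 => ?_⟩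
  simp only [Finset.mem_insert] at hz
  exact hu.2 z ((hz.resolve_left h1).resolve_left h2)

theorem card_insert_two {A : Finset α} {x y : α} (hx : x ∉ A) (hy : y ∉ A) (hxy : x ≠ y) :
    (insert x (insert y A)).card = A.card + 2 := by
  rw [Finset.card_insert_of_notMem (by simp [hxy, hx]), Finset.card_insert_of_notMem hy]

theorem odd_of_noSwap {j : ℕ} (h : NoSwap G j) {A : Finset α} (hA : A.card + 2 = j) :
    Odd (Nat.card (fixS G A)) := by
  refine odd_card_of_no_involution fun u hu huu => ?_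
  by_contra hu1
  obtain ⟨x, y, hx, hy, hxy, hsw⟩ := swap_of_involution hu huu hu1
  exact h _ (by rw [card_insert_two hx hy hxy, hA]) x (Finset.mem_insert_self _ _) y
    (Finset.mem_insert_of_mem (Finset.mem_insert_self _ _)) hxy hsw

/-- Multiply transitive groups without transpositions on sets have small codegree. -/
theorem big {j : ℕ} (hj : 5 ≤ j) (hjn : j ≤ Fintype.card α) (hG : KT G (j - 1)) (hns : NoSwap G j) :
    Fintype.card α ≤ j + 1 := by
  obtain ⟨t, ht⟩ := exists_card_eq (α := α) (k := j - 1) (by omega)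
  obtain ⟨s, hs⟩ := exists_card_eq (α := α) (k := j - 2) (by omega)
  have hst := KT.card_fixS_step (k := j - 2) (G := G) (by rwa [show j - 2 + 1 = j - 1 by omega]) (by omega) hs
    (t := t) (by omega)
  have ho : ∀ w : Finset α, w.card = j - 1 → Odd (Nat.card (fixS G w)) := fun w hw => by
    obtain ⟨v, hv, hvc⟩ := Finset.exists_subset_card_eq (s := w) (n := j - 2) (by omega)
    exact Odd.of_dvd_nat (odd_of_noSwap hns (by omega)) (card_fixS_anti hv)
  have hodd := odd_of_noSwap hns (A := s) (by omega)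
  rw [hst, Nat.odd_mul] at hodd
  have h1 := Nat.odd_iff.1 hodd.1
  rcases odd_degree_bound (k := j - 1) (by omega) (by omega) hG ho with h | ⟨h, -⟩ <;> omega

theorem noSwap_of_alt {j : ℕ} (hj : j ≤ Fintype.card α) (hh : Homog G j) {Δ : Finset α} (hΔ : Δ.card = j)
    (halt : ∀ σ : Perm ↥Δ, Perm.sign σ = 1 → σ ∈ Ind G Δ) (hnot : ¬ KT G j) : NoSwap G j := by
  intro s hs x hx y hy hxy hsw
  refine hnot (kt_of_ind_top hj hh hs (ind_top_of_alt_swap (fun σ hσ => ?_) hx hy hxy hsw))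
  obtain ⟨g, hg, e⟩ := hh Δ s hΔ hs
  obtain ⟨f, hf⟩ := ind_transport hg e
  have h := hf (f.symm.permCongr σ) (halt _ (by rw [Perm.sign_permCongr, hσ]))
  rwa [show f.permCongr (f.symm.permCongr σ) = σ from by ext z; simp [Equiv.permCongr_apply]] at h

theorem homog_lt_kt {j : ℕ} (hj : j ≤ 1) (hjn : j ≤ Fintype.card α) (hh : Homog G j) : KT G j := by
  obtain ⟨s, hs⟩ := exists_card_eq hjn
  refine kt_of_ind_top hjn hh hs ((Subgroup.eq_top_iff' _).2 fun σ => ⟨1, G.one_mem, fun x => ?_⟩)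
  rw [Perm.one_apply, Finset.card_le_one.1 (hs.trans_le hj) x x.2 _ (σ x).2]

theorem k4_cases {n t h t5 : ℕ} (hn : 5 ≤ n) (ht : t < 6) (htd : t ∣ 6) (hh : 0 < h) (h5 : 0 < t5)
    (h1 : t * (n - 2) = h * 6) (h2 : t5 * (n - 3) = 4 * t) :
    (n = 5 ∧ t = 2 ∧ h = 1) ∨ (n = 11 ∧ t = 2 ∧ h = 3) ∨ (n = 6 ∧ t = 3 ∧ h = 2) := by
  have hb : n ≤ 4 * t + 3 := by
    have := Nat.le_of_dvd (by rcases Nat.eq_zero_or_pos t with rfl | h <;> simp_all <;> omega) (⟨t5, by rw [← h2, mul_comm]⟩ : n - 3 ∣ 4 * t)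
    omega
  have h2' : (n - 3) ∣ 4 * t := ⟨t5, by rw [← h2, mul_comm]⟩
  have h1' : 6 ∣ t * (n - 2) := ⟨h, by rw [h1, mul_comm]⟩
  interval_cases t <;> interval_cases n <;> omega

theorem k5_key : ∀ t ∈ Nat.divisors 24, ∀ m ∈ Nat.divisors (5 * t), t < 24 → 2 ≤ m → (24 ∣ t * (m + 1)) →
      (m, t) ∈ [(3, 12), (5, 12), (15, 12), (2, 8), (5, 8), (8, 8), (20, 8), (3, 6), (15, 6), (5, 4), (15, 3)] := by
    decide +kernel
theorem k5_cases {n t h t5 : ℕ} (hn : 6 ≤ n) (ht : t < 24) (htd : t ∣ 24) (hh : 0 < h) (h5 : 0 < t5)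
    (h1 : t * (n - 3) = h * 24) (h2 : t5 * (n - 4) = 5 * t) :
    (n = 9 ∧ t = 12 ∧ h = 3) ∨ (t = 12 ∧ h % 2 = 0) ∨ (n = 6 ∧ t = 8 ∧ h = 1) ∨ (n = 9 ∧ t = 8 ∧ h = 2) ∨
      (n = 12 ∧ t = 8 ∧ h = 3 ∧ t5 = 5) ∨ (n = 24 ∧ t = 8 ∧ h = 7) ∨ (n = 7 ∧ t = 6 ∧ h = 1) ∨
      (n = 19 ∧ t = 6 ∧ h = 4 ∧ t5 = 2) ∨ (n = 9 ∧ t = 4 ∧ h = 1) ∨ (n = 19 ∧ t = 3 ∧ h = 2) := by
  obtain ⟨m, rfl⟩ : ∃ m, n = m + 4 := ⟨n - 4, by omega⟩
  rw [Nat.add_sub_cancel] at h2
  rw [show m + 4 - 3 = m + 1 by omega] at h1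
  have htp : 0 < t := Nat.pos_of_dvd_of_pos htd (by norm_num)
  have hm5 : m ∈ Nat.divisors (5 * t) := Nat.mem_divisors.2 ⟨⟨t5, by rw [← h2, mul_comm]⟩, by omega⟩
  have ht24 : t ∈ Nat.divisors 24 := Nat.mem_divisors.2 ⟨htd, by norm_num⟩
  have hm := k5_key t ht24 m hm5 ht (by omega) ⟨h, by rw [h1, mul_comm]⟩
  simp only [List.mem_cons, List.not_mem_nil, or_false, Prod.mk.injEq] at hm
  rcases hm with ⟨rfl, rfl⟩ | ⟨rfl, rfl⟩ | ⟨rfl, rfl⟩ | ⟨rfl, rfl⟩ | ⟨rfl, rfl⟩ | ⟨rfl, rfl⟩ | ⟨rfl, rfl⟩ |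
    ⟨rfl, rfl⟩ | ⟨rfl, rfl⟩ | ⟨rfl, rfl⟩ | ⟨rfl, rfl⟩ <;> norm_num at h1 h2 ⊢ <;> omega

/-- The orders of a homogeneous group with trivial pointwise stabilisers of `k - 1` points. -/
theorem exceptions {k : ℕ} (hk : 3 ≤ k) (hkn : k ≤ Fintype.card α) (hT : KT G (k - 2)) (hN : ¬ KT G (k - 1))
    (hh1 : Homog G (k - 1)) (hh : Homog G k) :
    (k = Fintype.card α ∧ G = alternatingGroup α) ∨ (Fintype.card α = 5 ∧ k = 4 ∧ Nat.card G = 20) ∨
      (Fintype.card α = 6 ∧ k = 5 ∧ Nat.card G = 120) ∨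
      (Fintype.card α = 9 ∧ k = 5 ∧ (Nat.card G = 504 ∨ Nat.card G = 1512)) := by
  obtain ⟨Γ, hΓ⟩ := exists_card_eq (α := α) (k := k - 1) (by omega)
  obtain ⟨K, hK⟩ := exists_card_eq (α := α) (k := k) hkn
  obtain ⟨A, hA⟩ := exists_card_eq (α := α) (k := k - 2) (by omega)
  have hl : Nat.card (fixS G Γ) = 1 := by
    by_contra hl
    refine hN ((kt_iff (by omega)).2 (Cfsg.Agent.S0744.result G (show 1 < k by omega) hkn (Nat.card (fixS G Γ))
      (Nat.card (fixS G K)) (by have := Nat.card_pos (α := fixS G Γ); omega)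
      (fun s hs => by rw [card_fixS_eq, hh1.card_fixS hs hΓ]) fun s hs => by rw [card_fixS_eq, hh.card_fixS hs hK]))
  have hsr : SR G (k - 1) := fun s hs g hg =>
    Subgroup.mem_bot.1 (Subgroup.card_eq_one.1 ((hh1.card_fixS hs hΓ).trans hl) ▸ hg)
  have hind : ∀ s : Finset α, s.card = k - 1 → Nat.card (Ind G s) = Nat.card (setS G s) :=
    fun s hs => card_ind fun g hg => hsr.eq_one hs.ge hg
  have hcG : ∀ s : Finset α, s.card = k - 1 →
      Nat.card G = (Fintype.card α).choose (k - 1) * Nat.card (Ind G s) := fun s hs => by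
    rw [hind s hs]; exact hh1.card_eq hs
  set n := Fintype.card α with hn
  set t := Nat.card (Ind G Γ) with ht
  have htall : ∀ s : Finset α, s.card = k - 1 → Nat.card (Ind G s) = t := fun s hs =>
    Nat.eq_of_mul_eq_mul_left (Nat.choose_pos (by omega)) ((hcG s hs).symm.trans (hcG Γ hΓ))
  have hperm : ∀ s : Finset α, s.card = k - 1 → Nat.card (Perm ↥s) = (k - 1).factorial := fun s hs => by
    rw [Nat.card_perm, Nat.card_eq_fintype_card, Fintype.card_coe, hs]
  have htdvd : t ∣ (k - 1).factorial := hperm Γ hΓ ▸ (Ind G Γ).card_subgroup_dvd_card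
  have htlt : t < (k - 1).factorial := by
    refine lt_of_le_of_ne (Nat.le_of_dvd (Nat.factorial_pos _) htdvd) fun e => hN ?_
    exact kt_of_ind_top (by omega) hh1 hΓ (Subgroup.eq_top_of_card_eq _ (by rw [hperm Γ hΓ, ← e]))
  set h := Nat.card (fixS G A) with hhdef
  have hhA : ∀ s : Finset α, s.card = k - 2 → Nat.card (fixS G s) = h := fun s hs =>
    (hT.homog le_rfl).card_fixS hs hA
  have hpos : 0 < h := Nat.card_pos
  have e1 : t * (n - (k - 2)) = h * (k - 1).factorial := by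
    have h2 := hcG Γ hΓ
    rw [hT.card_eq (by omega) hA] at h2
    have h3 : n.descFactorial (k - 1) = (n - (k - 2)) * n.descFactorial (k - 2) := by
      rw [← Nat.descFactorial_succ]; congr 1; omega
    have h4 := congrArg (fun z => (k - 1).factorial * z) h2
    rw [← mul_assoc ((k - 1).factorial) (n.choose (k - 1)), ← Nat.descFactorial_eq_factorial_mul_choose, h3] at h4
    refine Nat.eq_of_mul_eq_mul_left (Nat.descFactorial_pos.2 (show k - 2 ≤ n by omega)) ?_
    rw [← hn, ← hhdef, ← ht] at h4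
    linarith
  have hswap : ∀ s : Finset α, s.card = k - 1 → ∀ x ∈ s, ∀ y ∈ s, x ≠ y → HasSwap G s x y → 2 ∣ t :=
    fun s hs x hx y hy hxy hsw => htall s hs ▸ two_dvd_card_ind hx hy hxy hsw
  rcases hkn.lt_or_eq with hlt | heq
  swap
  · refine Or.inl ⟨heq, ?_⟩
    rw [show n - (k - 2) = 2 by omega] at e1
    have hh1' : h = 1 := by nlinarith
    rw [hh1', one_mul] at e1
    have h2 := hcG Γ hΓ
    rw [show n.choose (k - 1) = n by rw [← heq, Nat.choose_symm_of_eq_add (show k = k - 1 + 1 by omega),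
      Nat.choose_one_right], ← ht] at h2
    have h3 := G.card_mul_index
    rw [h2, Nat.card_perm, Nat.card_eq_fintype_card, ← hn, ← Nat.mul_factorial_pred (show n ≠ 0 by omega),
      mul_assoc] at h3
    have h4 : t * G.index = (k - 1).factorial := by
      rw [heq]
      exact Nat.eq_of_mul_eq_mul_left (show 0 < n by omega) h3
    rw [← e1] at h4
    exact Equiv.Perm.eq_alternatingGroup_of_index_eq_two (Nat.eq_of_mul_eq_mul_left (Nat.card_pos (α := Ind G Γ)) h4)
  rcases le_or_gt 6 k with h6 | h6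
  · exfalso
    obtain ⟨Δ, hΔ, halt⟩ := exists_alt_set (G := G) (k := k - 2) (by omega) (by omega) hT
    rw [show k - 2 + 1 = k - 1 by omega] at hΔ
    have := big (G := G) (j := k - 1) (by omega) (by omega) (by rwa [show k - 1 - 1 = k - 2 by omega])
      (noSwap_of_alt (by omega) hh1 hΔ halt hN)
    omega
  set t5 := Nat.card (setS G K) with ht5def
  have ht5 : ∀ s : Finset α, s.card = k → Nat.card (setS G s) = t5 := fun s hs =>
    Nat.eq_of_mul_eq_mul_left (Nat.choose_pos hkn) ((hh.card_eq hs).symm.trans (hh.card_eq hK))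
  have h5pos : 0 < t5 := Nat.card_pos
  have e2 : t5 * (n - (k - 1)) = k * t := by
    have h2 := hcG Γ hΓ
    rw [hh.card_eq hK, ← hn, ← ht5def, ← ht] at h2
    have h3 := Nat.choose_succ_right_eq n (k - 1)
    rw [show k - 1 + 1 = k by omega] at h3
    refine Nat.eq_of_mul_eq_mul_left (Nat.choose_pos (show k - 1 ≤ n by omega)) ?_
    calc n.choose (k - 1) * (t5 * (n - (k - 1))) = n.choose k * t5 * k := by
          rw [show n.choose (k - 1) * (t5 * (n - (k - 1))) = n.choose (k - 1) * (n - (k - 1)) * t5 by ring, ← h3]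
          ring
      _ = n.choose (k - 1) * (k * t) := by rw [h2]; ring
  have hGv : Nat.card G = n.choose (k - 1) * t := hcG Γ hΓ
  interval_cases k
  · exfalso
    have ht1 : t = 1 := by
      have := Nat.card_pos (α := Ind G Γ)
      norm_num [Nat.factorial] at htlt
      omega
    rw [ht1] at e1 e2
    norm_num at e1 e2
    have h2 : 2 ∣ Nat.card G := by
      rw [hT.card_eq (by omega) hA, ← hn, ← hhdef, Nat.descFactorial_one]
      have h3 : n - 2 ≤ 3 := Nat.le_of_dvd (by norm_num) ⟨t5, by rw [← e2, mul_comm]⟩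
      exact dvd_mul_of_dvd_right (by omega) _
    obtain ⟨u, hu, hu1, huu⟩ := exists_involution h2
    obtain ⟨x, y, hx, hy, hxy, hsw⟩ := swap_of_involution (A := ∅) (u := u) (G := G) ⟨hu, by simp⟩ huu hu1
    have := hswap _ (by rw [card_insert_two hx hy hxy]; rfl) x (by simp) y (by simp) hxy hsw
    omega
  · norm_num [Nat.factorial] at htlt htdvd e1 e2
    rcases k4_cases (n := n) (by omega) htlt htdvd hpos h5pos e1 e2 with
      ⟨h1, h2, -⟩ | ⟨h1, h2, h3⟩ | ⟨h1, h2, h3⟩
    · exact Or.inr (Or.inl ⟨h1, rfl, by rw [hGv, h1, h2]; rfl⟩)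
    · exact (no_eleven h1 (by rw [hGv, h1, h2]; rfl) hT).elim
    · exfalso
      obtain ⟨u, hu, hu1, huu⟩ := exists_involution (K := fixS G A) (by rw [← hhdef, h3])
      obtain ⟨a, b, -, rfl⟩ := Finset.card_eq_two.1 hA
      have hua : u ∈ fixS G {a} := fixS_anti (by simp) hu
      obtain ⟨x, y, hx, hy, hxy, hsw⟩ := swap_of_involution hua huu hu1
      have := hswap _ (by rw [card_insert_two hx hy hxy]; rfl) x (by simp) y (by simp) hxy hsw
      omega
  · norm_num [Nat.factorial] at htlt htdvd e1 e2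
    rcases k5_cases (n := n) (by omega) htlt htdvd hpos h5pos e1 e2 with
      ⟨h1, h2, -⟩ | ⟨h2, h3⟩ | ⟨h1, h2, -⟩ | ⟨h1, h2, h3⟩ | ⟨h1, h2, h3, h4⟩ | ⟨h1, h2, h3⟩ | ⟨h1, h2, h3⟩ |
      ⟨h1, h2, h3, h4⟩ | ⟨h1, h2, -⟩ | ⟨h1, h2, h3⟩
    · exact Or.inr (Or.inr (Or.inr ⟨h1, rfl, Or.inr (by rw [hGv, h1, h2]; rfl)⟩))
    · exfalso
      have hns : NoSwap G 4 := by
        intro s hs x hx y hy hxy hsw
        have hidx : (Ind G s).index = 2 := by
          have h5 := (Ind G s).card_mul_index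
          rw [hperm s hs, htall s hs, h2] at h5
          norm_num [Nat.factorial] at h5
          omega
        have hmem := swap_mem_ind hx hy hsw
        rw [Equiv.Perm.eq_alternatingGroup_of_index_eq_two hidx, Perm.mem_alternatingGroup,
          sign_swap_mem hx hy hxy] at hmem
        exact absurd hmem (by decide)
      obtain ⟨v, hv, hvc⟩ := Finset.exists_subset_card_eq (s := A) (n := 2) (by omega)
      have h5 := Nat.odd_iff.1 (Odd.of_dvd_nat (odd_of_noSwap hns (A := v) (by omega)) (card_fixS_anti (G := G) hv))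
      rw [← hhdef] at h5
      omega
    · exact Or.inr (Or.inr (Or.inl ⟨h1, rfl, by rw [hGv, h1, h2]; rfl⟩))
    · exact (no_nine h1 (by rw [hGv, h1, h2]; rfl) hT hsr).elim
    · exact (no_twelve h1 (fun s hs => (hhA s hs).trans h3) fun s hs => (ht5 s hs).trans h4).elim
    · exact (no_twentyfour h1 (by rw [hGv, h1, h2]; rfl) (hT.mono (by omega))).elim
    · refine (no_seven h1 (by rw [hGv, h1, h2]; rfl) hT fun s hs g hg => ?_).elim
      exact Subgroup.mem_bot.1 (Subgroup.card_eq_one.1 ((hhA s hs).trans h3) ▸ hg)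
    · exact (no_nineteen h1 (by rw [hGv, h1, h2, Nat.choose_eq_descFactorial_div_factorial]; rfl) hT hsr
        fun s hs => (ht5 s hs).trans h4).elim
    · exact Or.inr (Or.inr (Or.inr ⟨h1, rfl, Or.inl (by rw [hGv, h1, h2]; rfl)⟩))
    · exfalso
      obtain ⟨u, hu, hu1, huu⟩ := exists_involution (K := fixS G A) (by rw [← hhdef, h3])
      obtain ⟨v, hv, hvc⟩ := Finset.exists_subset_card_eq (s := A) (n := 2) (by omega)
      obtain ⟨x, y, hx, hy, hxy, hsw⟩ := swap_of_involution (fixS_anti hv hu) huu hu1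
      have := hswap _ (by rw [card_insert_two hx hy hxy, hvc]) x (by simp) y (by simp) hxy hsw
      omega

/-- All smaller homogeneity. -/
theorem homog_all {k : ℕ} (hkn : 2 * k ≤ Fintype.card α) (hh : MulAction.IsPretransitive G (Set.powersetCard α k)) :
    ∀ j, 1 ≤ j → j ≤ k → Homog G j := by
  have key : ∀ d, d < k → MulAction.IsPretransitive G (Set.powersetCard α (k - d)) := by
    intro d
    induction d with
    | zero => exact fun _ => hh
    | succ d ih =>
      intro hd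
      have := Cfsg.Agent.S0736.result G (k := k - d) (by omega) (ih (by omega)) fun q _ hqd => by
        have := Nat.le_of_dvd (by omega) hqd
        omega
      rwa [show k - d - 1 = k - (d + 1) by omega] at this
  intro j hj hjk
  have h := homog_of_pretransitive (key (k - j) (by omega))
  rwa [show k - (k - j) = j by omega] at h

/-- Half-degree homogeneity gives transitivity one lower. -/
theorem kt_pred {k : ℕ} (hkn : 2 * k ≤ Fintype.card α) (hh : MulAction.IsPretransitive G (Set.powersetCard α k)) :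
    ∀ j, j + 1 ≤ k → KT G j := by
  have H := homog_all hkn hh
  intro j
  induction j using Nat.strong_induction_on with
  | _ j ih =>
  intro hj
  rcases le_or_gt j 1 with h1 | h1
  · rcases Nat.eq_zero_or_pos j with rfl | h0
    · exact kt_zero G
    · exact homog_lt_kt h1 (by omega) (H j h0 (by omega))
  by_contra hN
  rcases exceptions (k := j + 1) (by omega) (by omega) (ih (j - 1) (by omega) (by omega))
    (by rwa [Nat.add_sub_cancel]) (by rw [Nat.add_sub_cancel]; exact H j (by omega) (by omega))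
    (H (j + 1) (by omega) hj) with ⟨h, -⟩ | ⟨h, h', -⟩ | ⟨h, h', -⟩ | ⟨h, h', -⟩ <;> omega

/-- Livingstone–Wagner. -/
theorem kt_self {k : ℕ} (hk : 5 ≤ k) (hkn : 2 * k ≤ Fintype.card α)
    (hh : MulAction.IsPretransitive G (Set.powersetCard α k)) : KT G k := by
  have hT := kt_pred hkn hh (k - 1) (by omega)
  obtain ⟨Δ, hΔ, halt⟩ := exists_alt_set (G := G) (k := k - 1) (by omega) (by omega) hT
  rw [show k - 1 + 1 = k by omega] at hΔ
  by_contra hN
  have := big hk (by omega) hT (noSwap_of_alt (by omega) (homog_of_pretransitive hh) hΔ halt hN)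
  omega

end CfsgLivWag
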