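import Cfsg.Agent.Lib.LivWag.Basic
import Cfsg.Agent.Lib.FourTransOdd.Main
import Cfsg.Agent.Lib.SharpTrans.Degrees
import Cfsg.Agent.Lib.SharpTrans.Auto

/-!
Groups transitive on `k`-tuples in which no non-identity element fixes `k + 1` points: a set of `k + 1` points
with a large induced group.
-/

set_option autoImplicit false
set_option linter.unusedSectionVars false

namespace CfsgLivWag

open Equiv

variable {α : Type*} [Fintype α] [DecidableEq α] {G : Subgroup (Perm α)}

/-- Only the identity fixes `j` given points. -/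
def SR (G : Subgroup (Perm α)) (j : ℕ) : Prop := ∀ s : Finset α, s.card = j → ∀ g ∈ fixS G s, g = 1

theorem SR.of_le {j i : ℕ} (h : SR G j) (hji : j ≤ i) : SR G i := fun s hs g hg => by
  obtain ⟨t, hts, ht⟩ := Finset.exists_subset_card_eq (show j ≤ s.card by omega)
  exact h t ht g (fixS_anti hts hg)

theorem SR.eq_one {j : ℕ} (h : SR G j) {s : Finset α} (hs : j ≤ s.card) {g : Perm α} (hg : g ∈ fixS G s) :
    g = 1 := h.of_le hs s rfl g hg

theorem SR.ext {j : ℕ} (h : SR G j) {s : Finset α} (hs : j ≤ s.card) {f g : Perm α} (hf : f ∈ G) (hg : g ∈ G)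
    (hfg : ∀ x ∈ s, f x = g x) : f = g := by
  have h1 : g⁻¹ * f = 1 := h.eq_one hs ⟨G.mul_mem (G.inv_mem hg) hf, fun x hx => by
    rw [Perm.mul_apply, hfg x hx, inv_app]⟩
  exact (inv_mul_eq_one.1 h1).symm

/-- Four-transitive groups with four-point stabilisers of odd order. -/
theorem setting_of (hG : KT G 4) (ho : ∀ s : Finset α, s.card = 4 → Odd (Nat.card (fixS G s))) :
    CfsgFourTransOdd.Setting G := by
  constructor
  · rintro a b c d a' b' c' d' ⟨h1, h2, h3, h4, h5, h6⟩ ⟨k1, k2, k3, k4, k5, k6⟩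
    obtain ⟨σ, hσ⟩ := exists_perm_of_injOn (s := ({a, b, c, d} : Finset α))
      (f := fun x => if x = a then a' else if x = b then b' else if x = c then c' else if x = d then d' else x) (by
        intro x hx y hy e
        simp only [Finset.coe_insert, Finset.coe_singleton, Set.mem_insert_iff, Set.mem_singleton_iff] at hx hy
        rcases hx with rfl | rfl | rfl | rfl <;> rcases hy with rfl | rfl | rfl | rfl <;>
          simp_all [h1.symm, h2.symm, h3.symm, h4.symm, h5.symm, h6.symm, k1.symm, k2.symm, k3.symm, k4.symm,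
            k5.symm, k6.symm])
    obtain ⟨g, hg, hgx⟩ := hG σ {a, b, c, d} Finset.card_le_four
    refine ⟨g, hg, ?_, ?_, ?_, ?_⟩ <;>
      (rw [hgx _ (by simp), hσ _ (by simp)]; simp [h1.symm, h2.symm, h3.symm, h4.symm, h5.symm, h6.symm])
  · rintro g hg a b c d ⟨h1, h2, h3, h4, h5, h6⟩ ga gb gc gd
    have hc : ({a, b, c, d} : Finset α).card = 4 := by simp [h1, h2, h3, h4, h5, h6]
    have hmem : g ∈ fixS G {a, b, c, d} := ⟨hg, fun x hx => by
      simp only [Finset.mem_insert, Finset.mem_singleton] at hx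
      rcases hx with rfl | rfl | rfl | rfl <;> assumption⟩
    exact Odd.of_dvd_nat (ho _ hc) (Subgroup.orderOf_dvd_natCard _ hmem)

/-- With stabilisers of `k` points of even order every pair is swapped. -/
theorem swaps_of_even {k : ℕ} (hk : 1 ≤ k) (hG : KT G k) (hsr : SR G (k + 1))
    (heven : ∀ s : Finset α, s.card = k → 2 ∣ Nat.card (fixS G s)) {Δ : Finset α} (hΔ : Δ.card = k + 1) :
    Ind G Δ = ⊤ := by
  classical
  have hpair : ∀ c ∈ Δ, ∀ d ∈ Δ, c ≠ d → HasSwap G Δ c d := by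
    intro c hc d hd hcd
    set A := (Δ.erase c).erase d with hA
    have hcA : c ∉ A := fun h => Finset.notMem_erase c Δ (Finset.mem_of_mem_erase h)
    have hdA : d ∉ A := Finset.notMem_erase d _
    have hAc : A.card + 1 = k := by
      rw [hA, Finset.card_erase_add_one (Finset.mem_erase.2 ⟨hcd.symm, hd⟩), Finset.card_erase_of_mem hc, hΔ]
      omega
    set M := Aᶜ with hM
    let I := (Finset.univ : Finset (Perm α)).filter fun g => g ∈ G ∧ g * g = 1 ∧ g ≠ 1 ∧ ∀ x ∈ A, g x = x
    have hI : ∀ g ∈ I, g ∈ G ∧ g * g = 1 ∧ g ≠ 1 ∧ ∀ x ∈ A, g x = x := fun g hg => (Finset.mem_filter.1 hg).2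
    have huniq : ∀ g ∈ I, ∀ x ∈ M, ∀ y ∈ M, g x = x → g y = y → x = y := by
      intro g hg x hx y hy gx gy
      by_contra hxy
      obtain ⟨hgG, -, hg1, hgA⟩ := hI g hg
      refine hg1 (hsr.eq_one (s := insert x (insert y A)) ?_ ⟨hgG, ?_⟩)
      · rw [Finset.card_insert_of_notMem (by simp [hxy, Finset.mem_compl.1 hx]),
          Finset.card_insert_of_notMem (Finset.mem_compl.1 hy)]
        omega
      · intro z hz
        simp only [Finset.mem_insert] at hz
        rcases hz with rfl | rfl | hz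
        · exact gx
        · exact gy
        · exact hgA z hz
    have hex : ∀ x : α, ∃ u : Perm α, x ∈ M → u ∈ I ∧ u x = x := by
      intro x
      by_cases hx : x ∈ M
      · obtain ⟨u, hu, hu1, hu2⟩ := exists_involution (heven (insert x A) (by
          rw [Finset.card_insert_of_notMem (Finset.mem_compl.1 hx)]; exact hAc))
        exact ⟨u, fun _ => ⟨Finset.mem_filter.2 ⟨Finset.mem_univ _, hu.1, hu2, hu1,
          fun z hz => hu.2 z (Finset.mem_insert_of_mem hz)⟩, hu.2 x (Finset.mem_insert_self x A)⟩⟩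
      · exact ⟨1, fun h => absurd h hx⟩
    choose u hu using hex
    have hMI : M.card ≤ I.card := Finset.card_le_card_of_injOn u (fun x hx => (hu x hx).1) (fun x hx y hy e =>
      huniq _ (hu x hx).1 x hx y hy (hu x hx).2 (e ▸ (hu y hy).2))
    set X := (I ×ˢ M).filter fun q => q.1 q.2 ≠ q.2 with hX
    set X0 := (I ×ˢ M).filter fun q => ¬ q.1 q.2 ≠ q.2 with hX0
    have hX0c : X0.card ≤ I.card := Finset.card_le_card_of_injOn Prod.fst
      (fun q hq => (Finset.mem_product.1 (Finset.mem_filter.1 hq).1).1) (fun q hq q' hq' e => by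
        obtain ⟨h1, h2⟩ := Finset.mem_filter.1 hq
        obtain ⟨h1', h2'⟩ := Finset.mem_filter.1 hq'
        rw [Finset.mem_product] at h1 h1'
        refine Prod.ext e (huniq q.1 h1.1 _ h1.2 _ h1'.2 (not_not.1 h2) ?_)
        have := not_not.1 h2'
        rwa [← e] at this)
    have hsum : X.card + X0.card = I.card * M.card := by
      rw [hX, hX0, Finset.card_filter_add_card_filter_not, Finset.card_product]
    have hmapsto : ∀ q ∈ X, (q.2, q.1 q.2) ∈ M.offDiag := fun q hq => by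
      obtain ⟨h1, h2⟩ := Finset.mem_filter.1 hq
      rw [Finset.mem_product] at h1
      refine Finset.mem_offDiag.2 ⟨h1.2, Finset.mem_compl.2 fun h => ?_, Ne.symm h2⟩
      obtain ⟨-, -, -, hgA⟩ := hI _ h1.1
      exact h2 (q.1.injective (hgA _ h))
    have hinj : Set.InjOn (fun q : Perm α × α => (q.2, q.1 q.2)) X := fun q hq q' hq' e => by
      obtain ⟨h1, h2⟩ := Finset.mem_filter.1 hq
      obtain ⟨h1', -⟩ := Finset.mem_filter.1 hq'
      rw [Finset.mem_product] at h1 h1'
      obtain ⟨e1, e2⟩ := Prod.ext_iff.1 e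
      simp only at e1 e2
      obtain ⟨hG1, hs1, -, hA1⟩ := hI _ h1.1
      obtain ⟨hG1', hs1', -, hA1'⟩ := hI _ h1'.1
      refine Prod.ext (hsr.ext (s := insert q.2 (insert (q.1 q.2) A)) ?_ hG1 hG1' ?_) e1
      · have hy : q.1 q.2 ∉ A := fun h => h2 (q.1.injective (hA1 _ h))
        rw [Finset.card_insert_of_notMem (by simp [Ne.symm h2, Finset.mem_compl.1 h1.2]),
          Finset.card_insert_of_notMem hy]
        omega
      · intro z hz
        simp only [Finset.mem_insert] at hz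
        rcases hz with rfl | rfl | hz
        · rw [e2, ← e1]
        · rw [← Perm.mul_apply, hs1, Perm.one_apply, e2, ← Perm.mul_apply, hs1', Perm.one_apply, e1]
        · rw [hA1 z hz, hA1' z hz]
    have himage : X.image (fun q => (q.2, q.1 q.2)) = M.offDiag := by
      refine Finset.eq_of_subset_of_card_le (fun z hz => ?_) ?_
      · obtain ⟨q, hq, rfl⟩ := Finset.mem_image.1 hz
        exact hmapsto q hq
      · rw [Finset.card_image_of_injOn hinj, Finset.offDiag_card]
        rcases Nat.eq_zero_or_pos M.card with h0 | h0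
        · simp [h0]
        · obtain ⟨m, hm⟩ := Nat.exists_eq_add_of_le h0
          rw [hm] at hMI hsum ⊢
          nlinarith [Nat.sub_add_cancel (Nat.le_mul_self (1 + m))]
    have hcd' : (c, d) ∈ M.offDiag :=
      Finset.mem_offDiag.2 ⟨Finset.mem_compl.2 hcA, Finset.mem_compl.2 hdA, hcd⟩
    rw [← himage] at hcd'
    obtain ⟨⟨g, x⟩, hq, e⟩ := Finset.mem_image.1 hcd'
    obtain ⟨rfl, hgx⟩ := Prod.ext_iff.1 e
    obtain ⟨hgG, hs, -, hgA⟩ := hI g (Finset.mem_product.1 (Finset.mem_filter.1 hq).1).1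
    refine ⟨g, hgG, hgx, ?_, fun z hz h1 h2 => hgA z (Finset.mem_erase.2 ⟨h2, Finset.mem_erase.2 ⟨h1, hz⟩⟩)⟩
    simp only at hgx ⊢
    rw [← hgx, ← Perm.mul_apply, hs, Perm.one_apply]
  obtain ⟨e, he⟩ := Finset.card_pos.1 (show 0 < Δ.card by omega)
  exact ind_top_of_swaps he fun x hx hxe => hpair x hx e he hxe

/-- The element swapping two points of a `k`-set and fixing the others. -/
def IsLift (G : Subgroup (Perm α)) (Q : Finset α) (x y : α) (t : Perm α) : Prop :=
  t ∈ G ∧ t * t = 1 ∧ t ≠ 1 ∧ t x = y ∧ t y = x ∧ ∀ z ∈ Q, z ≠ x → z ≠ y → t z = z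

theorem exists_lift {k : ℕ} (hG : KT G k) (hsr : SR G k) {Q : Finset α} (hQ : Q.card = k) {x y : α} (hx : x ∈ Q)
    (hy : y ∈ Q) (hxy : x ≠ y) : ∃ t, IsLift G Q x y t := by
  obtain ⟨t, ht, htx⟩ := hG (Equiv.swap x y) Q hQ.le
  have e1 : t x = y := by rw [htx x hx, Equiv.swap_apply_left]
  have e2 : t y = x := by rw [htx y hy, Equiv.swap_apply_right]
  have e3 : ∀ z ∈ Q, z ≠ x → z ≠ y → t z = z := fun z hz h1 h2 => by
    rw [htx z hz, Equiv.swap_apply_of_ne_of_ne h1 h2]
  refine ⟨t, ht, hsr.eq_one hQ.ge ⟨G.mul_mem ht ht, fun z hz => ?_⟩, fun e => hxy ?_, e1, e2, e3⟩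
  · rw [Perm.mul_apply]
    rcases eq_or_ne z x with rfl | h1
    · rw [e1, e2]
    rcases eq_or_ne z y with rfl | h2
    · rw [e2, e1]
    rw [e3 z hz h1 h2, e3 z hz h1 h2]
  · rw [e, Perm.one_apply] at e1
    exact e1

theorem IsLift.mem_iff {Q : Finset α} {x y : α} {t : Perm α} (h : IsLift G Q x y t) (hx : x ∈ Q) (hy : y ∈ Q)
    (z : α) : t z ∈ Q ↔ z ∈ Q := by
  refine (mem_setS_of_maps h.1 fun z hz => ?_).2 z
  rcases eq_or_ne z x with rfl | h1
  · rw [h.2.2.2.1]; exact hy
  rcases eq_or_ne z y with rfl | h2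
  · rw [h.2.2.2.2.1]; exact hx
  rw [h.2.2.2.2.2 z hz h1 h2]; exact hz

/-- The unique fixed point of a lift outside `Q`. -/
theorem IsLift.existsUnique {k : ℕ} (hsr : SR G k) {Q : Finset α} (hQ : Q.card = k)
    (hodd : Odd (Fintype.card α - k)) {x y : α} {t : Perm α} (h : IsLift G Q x y t) (hx : x ∈ Q) (hy : y ∈ Q)
    (hxy : x ≠ y) : ∃ e, e ∉ Q ∧ t e = e ∧ ∀ e', e' ∉ Q → t e' = e' → e' = e := by
  classical
  have hex : ∃ e, e ∉ Q ∧ t e = e := by
    by_contra hno
    push Not at hno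
    let f : {z : α // z ∉ Q} → {z : α // z ∉ Q} := fun z => ⟨t z, fun hz => z.2 ((h.mem_iff hx hy z).1 hz)⟩
    have hf : Function.Involutive f := fun z => Subtype.ext (by
      show t (t z) = z
      rw [← Perm.mul_apply, h.2.1, Perm.one_apply])
    have hs : 2 ∣ (hf.toPerm f).support.card := Equiv.Perm.two_dvd_card_support (by
      ext z; simp [pow_two, Perm.mul_apply, hf z])
    have hu : (hf.toPerm f).support = Finset.univ := Finset.eq_univ_iff_forall.2 fun z => Perm.mem_support.2 fun e =>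
      hno z z.2 (congrArg Subtype.val e)
    rw [hu, Finset.card_univ, card_compl, hQ] at hs
    exact Nat.not_even_iff_odd.2 hodd (even_iff_two_dvd.2 hs)
  obtain ⟨e, he, hte⟩ := hex
  refine ⟨e, he, hte, fun e' he' hte' => ?_⟩
  by_contra hne
  refine h.2.2.1 (hsr.eq_one (s := insert e (insert e' ((Q.erase x).erase y))) ?_ ⟨h.1, ?_⟩)
  · rw [Finset.card_insert_of_notMem (by simp [Ne.symm hne, he]), Finset.card_insert_of_notMem (by simp [he']),
      Finset.card_erase_of_mem (Finset.mem_erase.2 ⟨hxy.symm, hy⟩), Finset.card_erase_of_mem hx, hQ]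
    omega
  · intro z hz
    simp only [Finset.mem_insert, Finset.mem_erase] at hz
    rcases hz with rfl | rfl | ⟨h1, h2, h3⟩
    · exact hte
    · exact hte'
    · exact h.2.2.2.2.2 z h3 h2 h1

/-- Lifts of disjoint transpositions share their outside fixed point. -/
theorem lift_shared {k : ℕ} (hsr : SR G k) {Q : Finset α} (hQ : Q.card = k) {c d a b e : α}
    (hc : c ∈ Q) (hd : d ∈ Q) (ha : a ∈ Q) (hb : b ∈ Q) (hac : a ≠ c) (had : a ≠ d) (hbc : b ≠ c) (hbd : b ≠ d)
    {t u : Perm α} (ht : IsLift G Q c d t) (hu : IsLift G Q a b u) (heQ : e ∉ Q) (hte : t e = e)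
    (huniq : ∀ e', e' ∉ Q → t e' = e' → e' = e) : u e = e := by
  obtain ⟨htG, -, -, tc, td, tz⟩ := ht
  have hu0 := hu
  obtain ⟨huG, -, -, ua, ub, uz⟩ := hu
  have hcomm : t * u = u * t := by
    refine hsr.ext hQ.ge (G.mul_mem htG huG) (G.mul_mem huG htG) fun z hz => ?_
    rw [Perm.mul_apply, Perm.mul_apply]
    rcases eq_or_ne z c with rfl | h1
    · rw [uz z hz hac.symm hbc.symm, tc, uz d hd had.symm hbd.symm]
    rcases eq_or_ne z d with rfl | h2
    · rw [uz z hz had.symm hbd.symm, td, uz c hc hac.symm hbc.symm]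
    rw [tz z hz h1 h2]
    rcases eq_or_ne z a with rfl | h3
    · rw [ua, tz b hb hbc hbd]
    rcases eq_or_ne z b with rfl | h4
    · rw [ub, tz a ha hac had]
    rw [uz z hz h3 h4, tz z hz h1 h2]
  refine huniq _ (fun h => heQ ((hu0.mem_iff ha hb e).1 h)) ?_
  rw [← Perm.mul_apply, hcomm, Perm.mul_apply, hte]

/-- Sharply transitive with an odd number of other points. -/
theorem swaps_of_sharp_odd {k : ℕ} (hk : 4 ≤ k) (hG : KT G k) (hsr : SR G k) (hodd : Odd (Fintype.card α - k))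
    {Q : Finset α} (hQ : Q.card = k) : ∃ e, e ∉ Q ∧ Ind G (insert e Q) = ⊤ := by
  classical
  -- the main step
  have step : ∀ {a b c d e : α} {t : Perm α}, a ∈ Q → b ∈ Q → c ∈ Q → d ∈ Q → a ≠ b → a ≠ c → a ≠ d → b ≠ c →
      b ≠ d → c ≠ d → IsLift G Q c d t → e ∉ Q → t e = e → HasSwap G (insert e Q) b e := by
    intro a b c d e t ha hb hc hd hab hac had hbc hbd hcd ht heQ hte
    set Q' := insert e (Q.erase a) with hQ'
    have hQ'c : Q'.card = k := by
      rw [hQ', Finset.card_insert_of_notMem (fun h => heQ (Finset.mem_of_mem_erase h)),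
        Finset.card_erase_of_mem ha, hQ]
      omega
    have hbQ : b ∈ Q' := by simp [hQ', hb, hab.symm]
    have hcQ : c ∈ Q' := by simp [hQ', hc, hac.symm]
    have hdQ : d ∈ Q' := by simp [hQ', hd, had.symm]
    have heQ' : e ∈ Q' := Finset.mem_insert_self _ _
    have haQ : a ∉ Q' := by simp [hQ']; exact fun h => heQ (h ▸ ha)
    have ht' : IsLift G Q' c d t := by
      obtain ⟨h1, h2, h3, h4, h5, h6⟩ := ht
      refine ⟨h1, h2, h3, h4, h5, fun z hz n1 n2 => ?_⟩
      rcases Finset.mem_insert.1 hz with rfl | hz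
      · exact hte
      · exact h6 z (Finset.mem_of_mem_erase hz) n1 n2
    obtain ⟨a₀, ha₀, hta₀, huniq⟩ := ht'.existsUnique hsr hQ'c hodd hcQ hdQ hcd
    have hta : t a = a := ht.2.2.2.2.2 a ha hac had
    obtain rfl : a = a₀ := huniq a haQ hta
    have heb : e ≠ b := fun h => heQ (h ▸ hb)
    have hec : e ≠ c := fun h => heQ (h ▸ hc)
    have hed : e ≠ d := fun h => heQ (h ▸ hd)
    obtain ⟨u, hu⟩ := exists_lift hG hsr hQ'c hbQ heQ' (Ne.symm heb)
    have hua : u a = a := lift_shared hsr hQ'c hcQ hdQ hbQ heQ' hbc hbd hec hed ht' hu ha₀ hta huniq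
    refine ⟨u, hu.1, hu.2.2.2.1, hu.2.2.2.2.1, fun z hz n1 n2 => ?_⟩
    rcases eq_or_ne z a with rfl | hza
    · exact hua
    · refine hu.2.2.2.2.2 z ?_ n1 n2
      rcases Finset.mem_insert.1 hz with rfl | hz
      · exact absurd rfl n2
      · exact Finset.mem_insert_of_mem (Finset.mem_erase.2 ⟨hza, hz⟩)
  obtain ⟨s4, hs4, hc4⟩ := Finset.exists_subset_card_eq (show 4 ≤ Q.card by omega)
  obtain ⟨a, b, c, d, hab, hac, had, hbc, hbd, hcd, rfl⟩ := Finset.card_eq_four.1 hc4
  simp only [Finset.insert_subset_iff, Finset.singleton_subset_iff] at hs4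
  obtain ⟨ha, hb, hc, hd⟩ := hs4
  obtain ⟨t, ht⟩ := exists_lift hG hsr hQ hc hd hcd
  obtain ⟨u, hu⟩ := exists_lift hG hsr hQ ha hb hab
  obtain ⟨e, heQ, hte, huniq⟩ := ht.existsUnique hsr hQ hodd hc hd hcd
  have hue := lift_shared hsr hQ hc hd ha hb hac had hbc hbd ht hu heQ hte huniq
  refine ⟨e, heQ, ind_top_of_swaps (Finset.mem_insert_self e Q) fun x hx hxe => ?_⟩
  have hxQ : x ∈ Q := (Finset.mem_insert.1 hx).resolve_left hxe
  by_cases hxcd : x = c ∨ x = d
  · rcases hxcd with rfl | rfl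
    · exact step hd hxQ ha hb hcd.symm had.symm hbd.symm hac.symm hbc.symm hab hu heQ hue
    · exact step hc hxQ ha hb hcd hac.symm hbc.symm had.symm hbd.symm hab hu heQ hue
  · push Not at hxcd
    obtain ⟨a', ha', hne⟩ : ∃ a' ∈ Q, a' ≠ x ∧ a' ≠ c ∧ a' ≠ d := by
      rcases eq_or_ne a x with h | h
      · exact ⟨b, hb, h ▸ hab.symm, hbc, hbd⟩
      · exact ⟨a, ha, h, hac, had⟩
    exact step ha' hxQ hc hd hne.1 hne.2.1 hne.2.2 hxcd.1 hxcd.2 hcd ht heQ hte

theorem kt_sharp {k : ℕ} (hkn : k ≤ Fintype.card α) (hG : KT G k) (hsr : SR G k) :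
    CfsgSharpTrans.SharpK G k := by
  constructor
  · intro x y
    haveI := (kt_iff hkn).1 hG
    obtain ⟨g, hg⟩ := MulAction.exists_smul_eq G x y
    exact ⟨g, g.2, fun i => congrArg (fun e : Fin k ↪ α => e i) hg⟩
  · intro g hg x hx
    refine hsr.eq_one (s := Finset.univ.map x) (by simp) ⟨hg, fun z hz => ?_⟩
    obtain ⟨i, -, rfl⟩ := Finset.mem_map.1 hz
    exact hx i

/-- The possible degrees in the sharp case. -/
theorem sharp_degrees {k : ℕ} (hk : 4 ≤ k) (hkn : k ≤ Fintype.card α) (hG : KT G k) (hsr : SR G k) :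
    Fintype.card α - k ≤ 2 ∨ Odd (Fintype.card α - k) := by
  have h := kt_sharp hkn hG hsr
  rcases (show k = 4 ∨ k = 5 ∨ 6 ≤ k by omega) with rfl | rfl | h6
  · rcases CfsgSharpTrans.degree4 h hkn with e | e | e | e <;> rw [e] <;>
      first | (left; norm_num; done) | (right; decide)
  · rcases CfsgSharpTrans.degree5 h hkn with e | e | e | e <;> rw [e] <;>
      first | (left; norm_num; done) | (right; decide)
  · rcases CfsgSharpTrans.degreeK k h h6 hkn with e | e | e <;> rw [e] <;> left <;> omega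

/-- Odd stabilisers of `k` points: the degree. -/
theorem odd_degree_bound {k : ℕ} (hk : 4 ≤ k) (hkn : k ≤ Fintype.card α) (hG : KT G k)
    (ho : ∀ s : Finset α, s.card = k → Odd (Nat.card (fixS G s))) :
    Fintype.card α - k ≤ 3 ∨ (Fintype.card α - k = 7 ∧ ∃ s : Finset α, s.card = k ∧
      (Nat.card (fixS G s) = 1 ∨ Nat.card (fixS G s) = 27)) := by
  classical
  obtain ⟨T, -, hT⟩ := Finset.exists_subset_card_eq (show k - 4 ≤ (Finset.univ : Finset α).card by
    rw [Finset.card_univ]; omega)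
  have h4 : KT (off G T) 4 := by
    have := hG.off T (by omega)
    rwa [hT, show k - (k - 4) = 4 by omega] at this
  have S := setting_of h4 fun s hs => by
    rw [card_fixS_off]
    exact ho _ (by rw [card_union_lift, hT, hs]; omega)
  rcases Nat.lt_or_ge (Fintype.card {z : α // z ∉ T}) 8 with h | h
  · rw [card_compl, hT] at h
    left; omega
  right
  obtain ⟨hn, a, b, c, d, ⟨h1, h2, h3, h4', h5, h6⟩, hst⟩ := CfsgFourTransOdd.eleven S h
  rw [card_compl, hT] at hn
  have hc4 : ({a, b, c, d} : Finset {z : α // z ∉ T}).card = 4 := by simp [h1, h2, h3, h4', h5, h6]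
  refine ⟨by omega, T ∪ liftSet T {a, b, c, d}, by rw [card_union_lift, hT, hc4]; omega, ?_⟩
  rw [← card_fixS_off]
  have : fixS (off G T) {a, b, c, d} = CfsgFourTransOdd.stab (off G T) a b c d := by
    ext g
    simp [mem_fixS, CfsgFourTransOdd.mem_stab]
  rwa [this]

end CfsgLivWag
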